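import Groth.Agent.L13.CIPic.Lift
import Groth.Agent.L18.PicLefPara
import Groth.Agent.L18.CIProjPic
import Groth.Agent.L21.Smooth.Scheme
import Groth.Agent.L22.Adjunction.SmoothDual
import Groth.Agent.L22.Adjunction.SmoothClosed
import Groth.Agent.S11381

/-!
# Roots of twists on smooth complete intersection surfaces, in degrees prime to the characteristic
-/

set_option autoImplicit false
set_option linter.style.haveILetI false
set_option linter.unusedSectionVars false
set_option backward.isDefEq.respectTransparency false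
set_option backward.isDefEq.respectTransparency.types false
universe u

open CategoryTheory CategoryTheory.Limits AlgebraicGeometry TopologicalSpace

noncomputable section

namespace Groth.L13.CIPic

open Groth.L18.CIProj (pols nonempty_pow nonempty_powCongr nonempty_pullback_add nonempty_OC_zero)
open Groth.L21.PlaneCurve (OC)
open Groth.L00.Tensor (tensorIso)

variable {k : Type u} [Field k] [IsAlgClosed k] {d : ℕ} {a : Fin d → ℕ}
  (ha : ∀ j, 1 ≤ a j) (G : ∀ j, LefPen.Form (2 + d) k (a j))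

include ha in
/-- Every open containing `V(G)` contains all points of large dimension. -/
theorem dim_stalk_of_notMem (U : (CohB1.ProjSpace (2 + d) k).Opens)
    (hU : ((LefPen.ciIdeal G).support : Set (CohB1.ProjSpace (2 + d) k)) ⊆ (U : Set (CohB1.ProjSpace (2 + d) k)))
    (x : CohB1.ProjSpace (2 + d) k) (hx : x ∉ U) :
    (2 : WithBot ℕ∞) ≤ ringKrullDim ((CohB1.ProjSpace (2 + d) k).presheaf.stalk x) := by
  let P := CohB1.ProjSpace (2 + d) k
  letI : P.Over (Spec (CommRingCat.of k)) := ⟨CohB1.ProjSpace.toSpec (2 + d) k⟩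
  haveI : IsProper (P ↘ Spec (CommRingCat.of k)) := Groth.L16.ProjSpace.isProper_toSpec (2 + d) k
  have hA : CohB1.IsAmple (Groth.L22.Reg.O' (2 + d) k ((1 : ℕ) : ℤ)) :=
    Groth.L16.ProjTwist.isAmple_twist (CohB1.polyGrading (2 + d) k) one_pos
      (fun i : Fin (2 + d + 1) => (⟨MvPolynomial.X i, Groth.L16.ProjSpace.X_mem (2 + d) k i⟩ :
        CohB1.polyGrading (2 + d) k 1))
      (Groth.L16.ProjSpace.iSup_basicOpen_X_eq_top (2 + d) k)
  obtain ⟨D, hD, hsupp⟩ := Groth.L13.LeffCI.exists_good_divisors (ι := 𝟙 P) G ha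
    (Groth.L18.Ample.isAmple_pullback_of_isAffineHom (𝟙 P) hA)
  rw [Scheme.IdealSheafData.comap_id] at hsupp
  obtain ⟨b, hb, hn⟩ := Groth.L13.LefInter.dim_stalk_add_cdim k
    (Groth.L16.ProjSpace.topologicalKrullDim_eq_of_field (n := 2 + d) k) x
  rw [hb]
  suffices h : Groth.L13.LefInter.cdim k x < d + 1 by exact_mod_cast (show 2 ≤ b by omega)
  by_contra hc
  choose L s hL hLs using hD
  obtain ⟨z, hxz, hz, -⟩ := Groth.L13.LefInter.exists_common_zero k d L s hL x (by omega)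
  refine hx (hxz.mem_open U.2 (hU ?_))
  rw [hsupp]
  refine Set.mem_iInter.2 fun j => ?_
  rw [← hLs j, Groth.L22.ZeroScheme.support_zeroScheme (hL j).1]
  exact hz j

variable [SmoothOfRelativeDimension 2 ((LefPen.ciIdeal G).subschemeι ≫ CohB1.ProjSpace.toSpec (2 + d) k)]

theorem dim_le_two : topologicalKrullDim ↥(LefPen.ciIdeal G).subscheme ≤ ((2 + d - d : ℕ) : WithBot ℕ∞) :=
  (Groth.L22.Adjunction.topologicalKrullDim_le_relDim
    ((LefPen.ciIdeal G).subschemeι ≫ CohB1.ProjSpace.toSpec (2 + d) k) 2).trans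
      (le_of_eq (by exact_mod_cast (show 2 = 2 + d - d by omega)))

include ha in
theorem nonempty_ci : Nonempty (LefPen.ciIdeal G).subscheme := by
  haveI : IrreducibleSpace (CohB1.ProjSpace (2 + d) k) := inferInstance
  obtain ⟨x⟩ := (inferInstance : Nonempty (CohB1.ProjSpace (2 + d) k))
  by_contra h
  have he : ((LefPen.ciIdeal G).support : Set (CohB1.ProjSpace (2 + d) k)) = ∅ := by
    rw [← Scheme.IdealSheafData.range_subschemeι]
    haveI := not_nonempty_iff.1 h
    exact Set.range_eq_empty _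
  letI : (CohB1.ProjSpace (2 + d) k).Over (Spec (CommRingCat.of k)) := ⟨CohB1.ProjSpace.toSpec (2 + d) k⟩
  haveI : IsProper ((CohB1.ProjSpace (2 + d) k) ↘ Spec (CommRingCat.of k)) :=
    Groth.L16.ProjSpace.isProper_toSpec (2 + d) k
  have := dim_stalk_of_notMem ha G ⊥ (by rw [he]; exact Set.empty_subset _) (genericPoint _) (fun h => h.elim)
  have hfield : ringKrullDim ((CohB1.ProjSpace (2 + d) k).presheaf.stalk (genericPoint _)) = 0 :=
    ringKrullDim_eq_zero_of_isField (Field.toIsField (CohB1.ProjSpace (2 + d) k).functionField)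
  rw [hfield] at this
  exact absurd this (by decide)

include ha in
theorem isCI : Groth.L18.CIProjRing.IsCI (pols G) :=
  Groth.L18.CIProj.isCI_pols (by omega) ha G (dim_le_two G)

include ha in
theorem eq_of_iso {b c : ℤ} (h : Nonempty (OC (LefPen.ciIdeal G) b ≅ OC (LefPen.ciIdeal G) c)) : b = c := by
  haveI := nonempty_ci ha G
  obtain ⟨φ⟩ := h
  obtain ⟨e₁⟩ := nonempty_pullback_add (LefPen.ciIdeal G) (show b + -c = b - c by omega)
  obtain ⟨e₂⟩ := nonempty_pullback_add (LefPen.ciIdeal G) (show c + -c = 0 by omega)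
  obtain ⟨e₃⟩ := nonempty_OC_zero (LefPen.ciIdeal G)
  have := Groth.L18.CIProj.eq_zero_of_iso ha G (isCI ha G) (by omega) (b - c)
    ⟨e₁.symm ≪≫ tensorIso φ (Iso.refl _) ≪≫ e₂ ≪≫ e₃⟩
  omega

include ha in
/-- A root of a twist of degree prime to the characteristic is a twist. -/
theorem exists_iso_of_root {q : ℕ} (hq : (q : k) ≠ 0) (c : ℤ)
    {L : (LefPen.ciIdeal G).subscheme.Modules} (hL : PicF.IsInvertible L)
    (σ : CohB1.tensorPow L q ≅ OC (LefPen.ciIdeal G) c) :
    ∃ e : ℤ, (q : ℤ) * e = c ∧ Nonempty (L ≅ OC (LefPen.ciIdeal G) e) := by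
  let P := CohB1.ProjSpace (2 + d) k
  let I := LefPen.ciIdeal G
  haveI := nonempty_ci ha G
  haveI : Smooth (CohB1.ProjSpace.toSpec (2 + d) k) := Groth.L16.ProjSpace.smooth_toSpec (2 + d) k
  have hreg : ∀ x : P, IsRegularLocalRing (P.presheaf.stalk x) :=
    Groth.L21.Smooth.regular_stalk (CohB1.ProjSpace.toSpec (2 + d) k)
  letI : I.subscheme.Over (Spec (CommRingCat.of k)) := ⟨I.subschemeι ≫ CohB1.ProjSpace.toSpec (2 + d) k⟩
  haveI : SmoothOfRelativeDimension 2 (I.subscheme ↘ Spec (CommRingCat.of k)) :=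
    ‹SmoothOfRelativeDimension 2 (I.subschemeι ≫ CohB1.ProjSpace.toSpec (2 + d) k)›
  have hY : topologicalKrullDim ((I.comap (𝟙 P)).support : Set P) = ((2 + d - d : ℕ) : WithBot ℕ∞) := by
    rw [Scheme.IdealSheafData.comap_id, ← Scheme.IdealSheafData.range_subschemeι,
      ← I.subschemeι.isEmbedding.toHomeomorph.isHomeomorph.topologicalKrullDim_eq,
      Groth.L22.Adjunction.topologicalKrullDim_eq_relDim k 2]
    exact_mod_cast (show 2 = 2 + d - d by omega)
  have hLeff : LefX.LeffCond P I := by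
    have := Groth.Agent.S11381.result k (2 + d) P (𝟙 P) hreg (2 + d) d
      (Groth.L16.ProjSpace.topologicalKrullDim_eq_of_field (n := 2 + d) k) (by omega) a ha G hY
    rwa [Scheme.IdealSheafData.comap_id] at this
  have hqu : IsUnit (q : Γ(P, ⊤)) := by
    have := (isUnit_iff_ne_zero.2 hq).map (Coh.toGlobal (CohB1.ProjSpace.toSpec (2 + d) k))
    rwa [map_natCast] at this
  -- state everything on the first thickening
  suffices key : ∀ (L₀ : (I ^ (0 + 1)).subscheme.Modules), PicF.IsInvertible L₀ →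
      (CohB1.tensorPow L₀ q ≅ (Scheme.Modules.pullback (I ^ (0 + 1)).subschemeι).obj (Twist.twistProjSpace (2 + d) k c)) →
      ∃ e : ℤ, Nonempty (L₀ ≅ (Scheme.Modules.pullback (I ^ (0 + 1)).subschemeι).obj (Twist.twistProjSpace (2 + d) k e)) by
    rw [show I ^ (0 + 1) = I by rw [zero_add, pow_one]] at key
    obtain ⟨e, ⟨f⟩⟩ := key L hL σ
    obtain ⟨g⟩ := nonempty_powCongr f q
    obtain ⟨g'⟩ := nonempty_pow I e q
    exact ⟨e, eq_of_iso ha G ⟨g'.symm ≪≫ g.symm ≪≫ σ⟩, ⟨f⟩⟩
  intro L₀ hL₀ σ₀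
  obtain ⟨𝔐, h𝔐, ⟨eN⟩⟩ := exists_root_system I hqu
    (Groth.L16.ProjTwist.isInvertible_twistProjSpace (2 + d) k c) hL₀ σ₀
  obtain ⟨V, M, g, hV, hg, hM, ⟨eM⟩⟩ : ∃ (V : P.Opens) (M : (V : Scheme.{u}).Modules)
      (g : (I ^ (0 + 1)).subscheme ⟶ V), (I.support : Set P) ⊆ (V : Set P) ∧
        g ≫ V.ι = (I ^ (0 + 1)).subschemeι ∧ PicF.IsInvertible M ∧
        Nonempty ((Scheme.Modules.pullback g).obj M ≅ L₀) :=
    exists_extension_of_system I hLeff 𝔐 h𝔐 eN hL₀
  obtain ⟨L', hL', ⟨e'⟩⟩ := (Groth.L18.PicLefPara.bijective_open V fun x hx => by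
    haveI := hreg x
    exact Groth.L18.PicLefPara.parafactorial_regular (hreg x) (dim_stalk_of_notMem ha G V hV x hx)).2 M hM
  obtain ⟨e, ⟨t⟩⟩ := Groth.L20.PnPic.exists_iso_twist L' hL'
  exact ⟨e, ⟨eM.symm ≪≫ (Scheme.Modules.pullback g).mapIso e'.symm ≪≫
    (Scheme.Modules.pullbackComp g V.ι).app L' ≪≫ (Scheme.Modules.pullbackCongr hg).app L' ≪≫
    (Scheme.Modules.pullback (I ^ (0 + 1)).subschemeι).mapIso t⟩⟩

end Groth.L13.CIPic
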