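import Groth.Agent.L13.CIPic.Descend
import Groth.Agent.L18.CIProjChart
import Groth.Agent.L21.PlaneCurve.SmoothHyp
import Mathlib.RingTheory.Smooth.StandardSmoothCotangent
import Mathlib.AlgebraicGeometry.Morphisms.Smooth

/-!
# Standard charts of a complete intersection and its points
-/

set_option autoImplicit false
set_option linter.style.haveILetI false
set_option backward.isDefEq.respectTransparency false
set_option backward.isDefEq.respectTransparency.types false
universe u

open CategoryTheory CategoryTheory.Limits AlgebraicGeometry MvPolynomial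

noncomputable section

namespace Groth.L13.CIPic.Chart

open Groth.L18.CIProj (deh deh_form deh_surjective pols)

variable {k : Type u} [Field k] {n : ℕ}

local notation "Rk" => MvPolynomial (Fin (n + 1)) k
local notation "𝐏" => CohB1.ProjSpace n k

/-- The form of degree zero of a constant. -/
def constForm (c : k) : LefPen.Form n k 0 :=
  ⟨C c, (mem_homogeneousSubmodule _ _).2 (isHomogeneous_C _ c)⟩

/-- Constants go to constants. -/
theorem deh_C (i : Fin (n + 1)) (c : k) :
    deh i (C c : Rk) = (CohB1.ProjSpace.toSpec n k).appLE ⊤ (LefPen.chart n k i) (fun _ _ => trivial)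
      ((Scheme.ΓSpecIso (CommRingCat.of k)).inv c) := by
  have hW : (⊤ : (Spec (CommRingCat.of (MvPolynomial (Groth.L16.ProjSpace.ChartVar n i) k))).Opens) ≤
      Groth.L16.ProjSpace.chart n k i ⁻¹ᵁ LefPen.chart n k i := fun z _ =>
    (Groth.L16.ProjSpace.opensRange_chart n k i).le ⟨z, rfl⟩
  have hinj : Function.Injective ((Groth.L16.ProjSpace.chart n k i).appLE (LefPen.chart n k i) ⊤ hW) := by
    haveI : IsIso ((Groth.L16.ProjSpace.chart n k i).appLE (LefPen.chart n k i) ⊤ hW) := by
      have hr : LefPen.chart n k i = (Groth.L16.ProjSpace.chart n k i) ''ᵁ ⊤ := by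
        rw [Scheme.Hom.image_top_eq_opensRange]; exact (Groth.L16.ProjSpace.opensRange_chart n k i).symm
      have key : ∀ (U : (CohB1.ProjSpace n k).Opens) (h : ⊤ ≤ Groth.L16.ProjSpace.chart n k i ⁻¹ᵁ U),
          U = (Groth.L16.ProjSpace.chart n k i) ''ᵁ ⊤ →
          IsIso ((Groth.L16.ProjSpace.chart n k i).appLE U ⊤ h) := by
        rintro U h rfl
        rw [← Scheme.Hom.appIso_hom']
        infer_instance
      exact key _ hW hr
    exact (ConcreteCategory.bijective_of_isIso _).1
  refine hinj ?_
  rw [show deh i (C c : Rk) = LefPen.dehom (constForm c) i from deh_form (constForm c) i,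
    Groth.L21.PlaneCurve.chart_appLE_dehom]
  have h2 := Scheme.Hom.appLE_comp_appLE (Groth.L16.ProjSpace.chart n k i) (CohB1.ProjSpace.toSpec n k) ⊤
    (LefPen.chart n k i) ⊤ (fun _ _ => trivial) hW
  refine Eq.trans ?_ (congr($h2 ((Scheme.ΓSpecIso (CommRingCat.of k)).inv c))).symm
  have key : ∀ (g : Spec (CommRingCat.of (MvPolynomial (Groth.L16.ProjSpace.ChartVar n i) k)) ⟶
      Spec (CommRingCat.of k)), Groth.L16.ProjSpace.chart n k i ≫ CohB1.ProjSpace.toSpec n k = g →
      ∀ e, (Groth.L16.ProjSpace.chart n k i ≫ CohB1.ProjSpace.toSpec n k).appLE ⊤ ⊤ e = g.appTop := by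
    rintro g rfl e
    rw [Scheme.Hom.appTop, Scheme.Hom.app_eq_appLE]
    rfl
  rw [key _ (Groth.L16.ProjSpace.chart_toSpec n k i)]
  · have h3 := congr($(Scheme.ΓSpecIso_inv_naturality (CommRingCat.ofHom
      (C : k →+* MvPolynomial (Groth.L16.ProjSpace.ChartVar n i) k))) c)
    simp only [CommRingCat.comp_apply] at h3
    rw [show (constForm c).1 = (C c : Rk) from rfl, show Groth.L16.ProjSpace.dehom n k i (C c : Rk) = C c from
      (Groth.L16.ProjSpace.dehom n k i).commutes c]
    exact h3

variable {r : ℕ} {a : Fin r → ℕ} (G : ∀ j, LefPen.Form n k (a j))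

/-- The chart of the complete intersection. -/
abbrev V (i : Fin (n + 1)) : (LefPen.ciIdeal G).subscheme.Opens :=
  (LefPen.ciIdeal G).subschemeι ⁻¹ᵁ LefPen.chart n k i

theorem isAffineOpen_V (i : Fin (n + 1)) : IsAffineOpen (V G i) :=
  (Groth.L21.PlaneCurve.isAffineOpen_chart i).preimage (LefPen.ciIdeal G).subschemeι

/-- Polynomials as functions on a chart. -/
def ρ (i : Fin (n + 1)) : Rk →+* Γ((LefPen.ciIdeal G).subscheme, V G i) :=
  ((LefPen.ciIdeal G).subschemeι.app (LefPen.chart n k i)).hom.comp (deh i)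

theorem ρ_surjective (i : Fin (n + 1)) : Function.Surjective (ρ G i) :=
  ((LefPen.ciIdeal G).subschemeι_app_surjective
    ⟨_, Groth.L21.PlaneCurve.isAffineOpen_chart i⟩).comp (deh_surjective i)

theorem ρ_C (i : Fin (n + 1)) (c : k) :
    ρ G i (C c) = ((LefPen.ciIdeal G).subschemeι ≫ CohB1.ProjSpace.toSpec n k).appLE ⊤ (V G i) (fun _ _ => trivial)
      ((Scheme.ΓSpecIso (CommRingCat.of k)).inv c) := by
  show (LefPen.ciIdeal G).subschemeι.app _ (deh i (C c)) = _
  rw [deh_C, Scheme.Hom.app_eq_appLE]
  exact congr($(Scheme.Hom.appLE_comp_appLE (LefPen.ciIdeal G).subschemeι (CohB1.ProjSpace.toSpec n k) ⊤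
    (LefPen.chart n k i) (V G i) (fun _ _ => trivial) le_rfl) ((Scheme.ΓSpecIso (CommRingCat.of k)).inv c))

theorem ρ_X_self (i : Fin (n + 1)) : ρ G i (X i) = 1 := by
  show (LefPen.ciIdeal G).subschemeι.app _ (deh i (X i)) = 1
  refine (congrArg _ ?_).trans (map_one _)
  show (Proj.awayToSection (CohB1.polyGrading n k) (X i : Rk)).hom
    (Groth.L16.ProjSpace.toAway n k i (Groth.L16.ProjSpace.dehom n k i (X i))) = 1
  refine (congrArg _ ?_).trans (map_one _)
  exact (congrArg (Groth.L16.ProjSpace.toAway n k i) (Groth.L16.ProjSpace.dehom_X_self n k i)).trans (map_one _)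

theorem deh_eq_zero_iff (i : Fin (n + 1)) (f : Rk) :
    deh i f = 0 ↔ Groth.L16.ProjSpace.dehom n k i f = 0 := by
  haveI := Groth.L18.CIProj.isIso_awayToSection (k := k) (n := n) i
  have h1 := (ConcreteCategory.bijective_of_isIso
    (Proj.awayToSection (CohB1.polyGrading n k) (X i : Rk))).1
  have h2 : Function.LeftInverse (Groth.L16.ProjSpace.fromAway n k i) (Groth.L16.ProjSpace.toAway n k i) :=
    fun q => congr($(Groth.L16.ProjSpace.fromAway_toAway n k i) q)
  show (Proj.awayToSection (CohB1.polyGrading n k) (X i : Rk)).hom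
    (Groth.L16.ProjSpace.toAway n k i (Groth.L16.ProjSpace.dehom n k i f)) = 0 ↔ _
  exact (map_eq_zero_iff _ h1).trans (map_eq_zero_iff _ h2.injective)

/-- A polynomial vanishing on the chart is a relation plus something killed by dehomogenisation. -/
theorem exists_of_ρ_eq_zero (i : Fin (n + 1)) {f : Rk} (hf : ρ G i f = 0) :
    ∃ y ∈ Ideal.span (Set.range (pols G)), Groth.L16.ProjSpace.dehom n k i (f - y) = 0 := by
  have h : deh i f ∈ RingHom.ker ((LefPen.ciIdeal G).subschemeι.app (LefPen.chart n k i)).hom :=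
    RingHom.mem_ker.2 hf
  rw [(LefPen.ciIdeal G).ker_subschemeι_app ⟨_, Groth.L21.PlaneCurve.isAffineOpen_chart i⟩,
    Groth.L18.CIProj.ciIdeal_chart, ← Groth.L18.CIProj.map_span_pols] at h
  obtain ⟨y, hy, hye⟩ := (Ideal.mem_map_iff_of_surjective (deh i) (deh_surjective i)).1 h
  exact ⟨y, hy, (deh_eq_zero_iff i _).1 (by rw [map_sub, hye, sub_self])⟩

theorem eval_dehom (i : Fin (n + 1)) {x : Fin (n + 1) → k} (hx : x i = 1) (f : Rk) :
    eval (fun j : Groth.L16.ProjSpace.ChartVar n i => x j.1) (Groth.L16.ProjSpace.dehom n k i f) = eval x f := by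
  rw [← aeval_eq_eval, ← aeval_eq_eval]
  suffices h : (aeval fun j : Groth.L16.ProjSpace.ChartVar n i => x j.1).comp (Groth.L16.ProjSpace.dehom n k i) =
      aeval x from DFunLike.congr_fun h f
  refine MvPolynomial.algHom_ext fun j => ?_
  rw [AlgHom.comp_apply, Groth.L16.ProjSpace.dehom, aeval_X]
  by_cases h : j = i
  · rw [dif_pos h, map_one, h]; simp [hx]
  · rw [dif_neg h, aeval_X, aeval_X]

theorem ker_ρ_le (i : Fin (n + 1)) {x : Fin (n + 1) → k} (hx : x i = 1) (hz : ∀ j, eval x (G j).1 = 0) :
    RingHom.ker (ρ G i) ≤ RingHom.ker (eval x) := by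
  intro f hf
  obtain ⟨y, hy, hd⟩ := exists_of_ρ_eq_zero G i hf
  have h := eval_dehom i hx (f - y)
  rw [hd, map_zero, map_sub] at h
  have hle : Ideal.span (Set.range (pols G)) ≤ RingHom.ker (eval x) :=
    Ideal.span_le.2 (Set.range_subset_iff.2 fun j => hz j)
  rw [RingHom.mem_ker.1 (hle hy), sub_zero] at h
  exact h.symm

/-- Evaluation of functions on a chart at a point. -/
def ev (i : Fin (n + 1)) {x : Fin (n + 1) → k} (hx : x i = 1) (hz : ∀ j, eval x (G j).1 = 0) :
    Γ((LefPen.ciIdeal G).subscheme, V G i) →+* k :=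
  RingHom.liftOfSurjective (ρ G i) (ρ_surjective G i) ⟨eval x, ker_ρ_le G i hx hz⟩

theorem ev_ρ (i : Fin (n + 1)) {x : Fin (n + 1) → k} (hx : x i = 1) (hz : ∀ j, eval x (G j).1 = 0) (f : Rk) :
    ev G i hx hz (ρ G i f) = eval x f :=
  RingHom.liftOfSurjective_comp_apply _ _ _ f

theorem ρ_mem_span (i : Fin (n + 1)) {f : Rk} (hf : f ∈ Ideal.span (Set.range (pols G))) : ρ G i f = 0 := by
  have h : deh i f ∈ RingHom.ker ((LefPen.ciIdeal G).subschemeι.app (LefPen.chart n k i)).hom := by
    rw [(LefPen.ciIdeal G).ker_subschemeι_app ⟨_, Groth.L21.PlaneCurve.isAffineOpen_chart i⟩,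
      Groth.L18.CIProj.ciIdeal_chart, ← Groth.L18.CIProj.map_span_pols]
    exact Ideal.mem_map_of_mem _ hf
  exact RingHom.mem_ker.1 h

variable [SmoothOfRelativeDimension 2 ((LefPen.ciIdeal G).subschemeι ≫ CohB1.ProjSpace.toSpec n k)]

/-- Near each point the differentials on a chart are generated by two of them. -/
theorem exists_two_generators (i : Fin (n + 1)) {x : Fin (n + 1) → k} (hx : x i = 1)
    (hz : ∀ j, eval x (G j).1 = 0) :
    letI := ((ρ G i).comp C).toAlgebra
    ∃ h : Γ((LefPen.ciIdeal G).subscheme, V G i), ev G i hx hz h ≠ 0 ∧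
      ∃ η : Fin 2 → Ω[Γ((LefPen.ciIdeal G).subscheme, V G i)⁄k], ∀ ζ, ∃ M : ℕ,
        h ^ M • ζ ∈ Submodule.span Γ((LefPen.ciIdeal G).subscheme, V G i) (Set.range η) := by
  let f := (LefPen.ciIdeal G).subschemeι ≫ CohB1.ProjSpace.toSpec n k
  let A := Γ((LefPen.ciIdeal G).subscheme, V G i)
  have hloc : RingHom.Locally (RingHom.IsStandardSmoothOfRelativeDimension 2)
      (f.appLE ⊤ (V G i) (fun _ _ => trivial)).hom :=
    HasRingHomProperty.appLE (@SmoothOfRelativeDimension 2) f inferInstance
      ⟨⊤, isAffineOpen_top _⟩ ⟨V G i, isAffineOpen_V G i⟩ _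
  obtain ⟨s, hs, hsm⟩ := hloc
  obtain ⟨h, hh, hev⟩ : ∃ h ∈ s, ev G i hx hz h ≠ 0 := by
    by_contra hc
    push Not at hc
    have : Ideal.span s ≤ RingHom.ker (ev G i hx hz) := Ideal.span_le.2 fun t ht => hc t ht
    rw [hs] at this
    exact RingHom.ker_ne_top _ (top_le_iff.1 this)
  letI alg : Algebra k A := ((ρ G i).comp C).toAlgebra
  refine ⟨h, hev, ?_⟩
  let B := Localization.Away h
  haveI : IsScalarTower k A B := inferInstance
  have hB : RingHom.IsStandardSmoothOfRelativeDimension 2 (algebraMap k B) := by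
    have h1 := hsm h hh
    have heq : algebraMap k B = ((algebraMap A B).comp (f.appLE ⊤ (V G i) (fun _ _ => trivial)).hom).comp
        (Scheme.ΓSpecIso (CommRingCat.of k)).commRingCatIsoToRingEquiv.symm.toRingHom := by
      ext c
      rw [IsScalarTower.algebraMap_apply k A B]
      exact congrArg (algebraMap A B) (ρ_C G i c)
    rw [heq]
    exact (RingHom.isStandardSmoothOfRelativeDimension_respectsIso (n := 2)).right _ _ h1
  haveI : Algebra.IsStandardSmoothOfRelativeDimension 2 k B :=
    (RingHom.isStandardSmoothOfRelativeDimension_algebraMap 2).1 hB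
  haveI : Algebra.IsStandardSmooth k B := Algebra.IsStandardSmoothOfRelativeDimension.isStandardSmooth 2
  haveI : Nontrivial B := by
    let φ : B →+* k := IsLocalization.Away.lift h (g := ev G i hx hz) (isUnit_iff_ne_zero.2 hev)
    exact φ.domain_nontrivial
  have hrank : Module.finrank B Ω[B⁄k] = 2 := by
    have := Algebra.IsStandardSmoothOfRelativeDimension.rank_kaehlerDifferential (R := k) (S := B) 2
    exact Module.finrank_eq_of_rank_eq this
  let b := Module.finBasisOfFinrankEq B Ω[B⁄k] hrank
  let L := KaehlerDifferential.map k k A B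
  choose η hη using fun j => IsLocalizedModule.surj (Submonoid.powers h) L (b j)
  refine ⟨fun j => (η j).1, fun ζ => ?_⟩
  -- write the image in the basis and clear denominators
  let S : Submodule A Ω[A⁄k] := Submodule.span A (Set.range fun j => (η j).1)
  have hS : ∀ z : Ω[B⁄k], ∃ M : ℕ, ∃ y ∈ S, (algebraMap A B h) ^ M • z = L y := by
    intro z
    have hz : z ∈ Submodule.span B (Set.range b) := by rw [b.span_eq]; exact Submodule.mem_top
    induction hz using Submodule.span_induction with
    | mem w hw =>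
      obtain ⟨j, rfl⟩ := hw
      obtain ⟨M, hM⟩ := (η j).2.2
      refine ⟨M, (η j).1, Submodule.subset_span ⟨j, rfl⟩, ?_⟩
      have hM' : h ^ M = ((η j).2 : A) := hM
      rw [← hη j, ← map_pow, hM']
      exact IsScalarTower.algebraMap_smul B _ _
    | zero => exact ⟨0, 0, zero_mem _, by rw [map_zero, smul_zero]⟩
    | add v w _ _ hv hw =>
      obtain ⟨M, y, hy, hv⟩ := hv
      obtain ⟨M', y', hy', hw⟩ := hw
      refine ⟨M + M', h ^ M' • y + h ^ M • y', add_mem (S.smul_mem _ hy) (S.smul_mem _ hy'), ?_⟩
      rw [map_add, map_smul, map_smul, ← hv, ← hw, ← IsScalarTower.algebraMap_smul B (h ^ M'),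
        ← IsScalarTower.algebraMap_smul B (h ^ M), smul_smul, smul_smul, map_pow, map_pow, ← pow_add, ← pow_add,
        smul_add, Nat.add_comm M' M]
    | smul c w _ hw =>
      obtain ⟨M, y, hy, hw⟩ := hw
      obtain ⟨⟨c₀, ⟨_, M', rfl⟩⟩, hc⟩ := IsLocalization.surj (Submonoid.powers h) c
      refine ⟨M + M', c₀ • y, S.smul_mem _ hy, ?_⟩
      rw [map_smul, ← hw, ← IsScalarTower.algebraMap_smul B c₀, smul_smul, smul_smul]
      congr 1
      rw [← hc]
      simp only [map_pow, pow_add]
      ring
  obtain ⟨M, y, hy, hM⟩ := hS (L ζ)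
  have h0 : L (h ^ M • ζ) = L y := by
    rw [map_smul, ← hM, ← map_pow, IsScalarTower.algebraMap_smul]
  obtain ⟨⟨_, M', rfl⟩, hu⟩ := (IsLocalizedModule.eq_iff_exists (Submonoid.powers h) L).1 h0
  refine ⟨M' + M, ?_⟩
  have hu' : h ^ M' • h ^ M • ζ = h ^ M' • y := hu
  rw [pow_add, mul_smul, hu']
  exact S.smul_mem _ hy

/-- At each point the differentials of the equations are independent. -/
theorem exists_minor (hn : n = 2 + r) (i : Fin (n + 1)) {x : Fin (n + 1) → k} (hx : x i = 1)
    (hz : ∀ j, eval x (G j).1 = 0) :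
    ∃ f : Fin r → Fin (n + 1),
      eval x (Matrix.of fun (l j : Fin r) => pderiv (f l) (pols G j) : Matrix (Fin r) (Fin r) Rk).det ≠ 0 := by
  classical
  letI : Algebra k Γ((LefPen.ciIdeal G).subscheme, V G i) := ((ρ G i).comp C).toAlgebra
  let A := Γ((LefPen.ciIdeal G).subscheme, V G i)
  obtain ⟨h, hev, η, hη⟩ := exists_two_generators G i hx hz
  letI mk' : Module A k := Module.compHom k (ev G i hx hz)
  haveI : IsScalarTower k A k := IsScalarTower.of_algebraMap_smul fun c z => by
    show ev G i hx hz (ρ G i (C c)) * z = c • z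
    rw [ev_ρ, eval_C, smul_eq_mul]
  letI mkR : Module Rk k := Module.compHom k (eval x)
  haveI : IsScalarTower k Rk k := IsScalarTower.of_algebraMap_smul fun c z => by
    show eval x (C c) * z = c • z
    rw [eval_C, smul_eq_mul]
  let J : (Fin (n + 1) → k) →ₗ[k] (Option (Fin r) → k) :=
    LinearMap.pi fun o => o.elim (LinearMap.proj i)
      fun j => ∑ b, eval x (pderiv b (pols G j)) • LinearMap.proj b
  -- derivations of the chart from the kernel
  let K := LinearMap.ker J
  have hKi : ∀ w : K, (w : Fin (n + 1) → k) i = 0 := fun w => congrFun (LinearMap.mem_ker.1 w.2) none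
  have hKj : ∀ (w : K) (j : Fin r), ∑ b, eval x (pderiv b (pols G j)) * (w : Fin (n + 1) → k) b = 0 := fun w j => by
    have := congrFun (LinearMap.mem_ker.1 w.2) (some j)
    simpa [J] using this
  let D0 : (Fin (n + 1) → k) → Derivation k Rk k := fun w => MvPolynomial.mkDerivation k w
  have hD0 : ∀ w f, D0 w f = ∑ b, eval x (pderiv b f) * w b := by
    intro w f
    induction f using MvPolynomial.induction_on with
    | C c => rw [← MvPolynomial.algebraMap_eq, Derivation.map_algebraMap]; simp
    | add p q hp hq => simp only [map_add, hp, hq, add_mul, Finset.sum_add_distrib]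
    | mul_X p b hp =>
      rw [Derivation.leibniz, hp, mkDerivation_X]
      show eval x p * w b + eval x (X b) * _ = _
      simp only [pderiv_mul, map_add, map_mul, eval_X, add_mul, Finset.sum_add_distrib, Finset.mul_sum]
      rw [add_comm]
      congr 1
      · exact Finset.sum_congr rfl fun c _ => by ring
      · simp [pderiv_X, Pi.single_apply, apply_ite, eq_comm]
  have hvanish : ∀ (w : K) (f : Rk), ρ G i f = 0 → D0 w f = 0 := by
    intro w f hf
    obtain ⟨y, hy, hd⟩ := exists_of_ρ_eq_zero G i hf
    have h1 : D0 w y = 0 := by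
      clear hd
      induction hy using Submodule.span_induction with
      | mem z hz' =>
        obtain ⟨j, rfl⟩ := hz'
        rw [hD0]; exact hKj w j
      | zero => exact map_zero _
      | add z z' _ _ h1 h2 => rw [map_add, h1, h2, add_zero]
      | smul c z hzI h1 =>
        rw [smul_eq_mul, Derivation.leibniz, h1, smul_zero, zero_add]
        have hle : Ideal.span (Set.range (pols G)) ≤ RingHom.ker (eval x) :=
          Ideal.span_le.2 (Set.range_subset_iff.2 fun j => hz j)
        show eval x z * _ = 0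
        rw [RingHom.mem_ker.1 (hle hzI), zero_mul]
    let θ : Rk →ₐ[k] Rk := (MvPolynomial.rename Subtype.val).comp (Groth.L16.ProjSpace.dehom n k i)
    have h2 : ∀ p : Rk, D0 w p = D0 w (θ p) := by
      intro p
      induction p using MvPolynomial.induction_on with
      | C c => rw [show θ (C c) = C c from θ.commutes c]
      | add p q hp hq => simp only [map_add, hp, hq]
      | mul_X p b hp =>
        have he : ∀ q : Rk, eval x (θ q) = eval x q := fun q => by
          rw [AlgHom.comp_apply, eval_rename]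
          exact eval_dehom i hx q
        rw [map_mul θ, Derivation.leibniz, Derivation.leibniz, hp]
        show eval x p * _ + eval x (X b) * _ = eval x (θ p) * _ + eval x (θ (X b)) * _
        rw [he, he]
        congr 2
        show D0 w (X b) = D0 w (θ (X b))
        rw [AlgHom.comp_apply, Groth.L16.ProjSpace.dehom, aeval_X]
        by_cases hb : b = i
        · rw [dif_pos hb, map_one, Derivation.map_one_eq_zero, mkDerivation_X, hb, hKi]
        · rw [dif_neg hb, rename_X]
    have h3 : D0 w (f - y) = 0 := by rw [h2, AlgHom.comp_apply, hd, map_zero, map_zero]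
    rw [map_sub, h1, sub_zero] at h3
    exact h3
  let sec := Function.surjInv (ρ_surjective G i)
  have hsec : ∀ z, ρ G i (sec z) = z := Function.surjInv_eq _
  have hcongr : ∀ (w : K) {f f' : Rk}, ρ G i f = ρ G i f' → D0 w f = D0 w f' := fun w f f' hff => by
    rw [← sub_eq_zero, ← map_sub]
    exact hvanish w _ (by rw [map_sub, hff, sub_self])
  let DA : K → Derivation k A k := fun w => Derivation.mk'
    { toFun := fun z => D0 w (sec z)
      map_add' := fun z z' => by rw [← map_add]; exact hcongr w (by simp [hsec])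
      map_smul' := fun c z => by
        rw [RingHom.id_apply, ← Derivation.map_smul]
        refine hcongr w ?_
        rw [hsec, Algebra.smul_def, Algebra.smul_def, map_mul, hsec]
        rfl }
    fun z z' => by
      show D0 w (sec (z * z')) = ev G i hx hz z * D0 w (sec z') + ev G i hx hz z' * D0 w (sec z)
      rw [hcongr w (show ρ G i (sec (z * z')) = ρ G i (sec z * sec z') by simp [hsec]), Derivation.leibniz]
      rw [show ev G i hx hz z = eval x (sec z) from (congrArg _ (hsec z).symm).trans (ev_ρ G i hx hz _),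
        show ev G i hx hz z' = eval x (sec z') from (congrArg _ (hsec z').symm).trans (ev_ρ G i hx hz _)]
      rfl
  let ℓ : K → Ω[A⁄k] →ₗ[A] k := fun w => (DA w).liftKaehlerDifferential
  have hℓD : ∀ w f, ℓ w (KaehlerDifferential.D k A (ρ G i f)) = D0 w f := fun w f => by
    rw [Derivation.liftKaehlerDifferential_comp_D]
    exact hcongr w (hsec _)
  -- the derivations are determined by two values
  let T : K →ₗ[k] (Fin 2 → k) :=
    { toFun := fun w l => ℓ w (η l)
      map_add' := fun w w' => funext fun l => by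
        show ℓ (w + w') (η l) = ℓ w (η l) + ℓ w' (η l)
        have : ℓ (w + w') = ℓ w + ℓ w' := Derivation.liftKaehlerDifferential_unique _ _ (Derivation.ext fun z => by
          show ℓ (w + w') (KaehlerDifferential.D k A z) = ℓ w _ + ℓ w' _
          rw [← hsec z]; erw [hℓD, hℓD, hℓD]; rw [hD0, hD0, hD0, ← Finset.sum_add_distrib]
          simp [mul_add])
        rw [this]; rfl
      map_smul' := fun c w => funext fun l => by
        show ℓ (c • w) (η l) = c * ℓ w (η l)
        have : ℓ (c • w) = c • ℓ w := Derivation.liftKaehlerDifferential_unique _ _ (Derivation.ext fun z => by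
          show ℓ (c • w) (KaehlerDifferential.D k A z) = c * ℓ w _
          rw [← hsec z]; erw [hℓD, hℓD]; rw [hD0, hD0, Finset.mul_sum]
          simp [mul_left_comm])
        rw [this]; rfl }
  have hT : Function.Injective T := by
    refine (injective_iff_map_eq_zero T).2 fun w hw => ?_
    have h1 : ∀ ζ ∈ Submodule.span A (Set.range η), ℓ w ζ = 0 := fun ζ hζ => by
      induction hζ using Submodule.span_induction with
      | mem z hz' => obtain ⟨l, rfl⟩ := hz'; exact congrFun hw l
      | zero => exact map_zero _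
      | add z z' _ _ h1 h2 => rw [map_add, h1, h2, add_zero]
      | smul c z _ h1 => rw [map_smul, h1, smul_zero]
    refine Subtype.ext (funext fun b => ?_)
    obtain ⟨M, hM⟩ := hη (KaehlerDifferential.D k A (ρ G i (X b)))
    have h2 := h1 _ hM
    rw [map_smul, hℓD, mkDerivation_X] at h2
    have h3 : ev G i hx hz h ^ M * (w : Fin (n + 1) → k) b = 0 := by
      rw [← map_pow]; exact h2
    exact (mul_eq_zero.1 h3).resolve_left (pow_ne_zero M hev)
  -- dimensions
  have hJ : Function.Surjective J := by
    rw [← LinearMap.range_eq_top]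
    refine Submodule.eq_top_of_finrank_eq (le_antisymm (Submodule.finrank_le _) ?_)
    have h1 := LinearMap.finrank_range_add_finrank_ker J
    have h2 : Module.finrank k K ≤ 2 := (LinearMap.finrank_le_finrank_of_injective hT).trans (by simp)
    rw [Module.finrank_pi k] at h1 ⊢
    simp only [Fintype.card_option, Fintype.card_fin] at h1 ⊢
    have : Module.finrank k K = Module.finrank k (LinearMap.ker J) := rfl
    omega
  let row : Fin (n + 1) → (Fin r → k) := fun b j => eval x (pderiv b (pols G j))
  have hspan : Submodule.span k (Set.range row) = ⊤ := by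
    refine top_le_iff.1 fun v _ => ?_
    obtain ⟨w, hw⟩ := hJ (fun o => o.elim 0 v)
    have : v = ∑ b, w b • row b := funext fun j => by
      have := congrFun hw (some j)
      simp [J] at this
      simp [row, ← this, mul_comm]
    rw [this]
    exact Submodule.sum_mem _ fun b _ => Submodule.smul_mem _ _ (Submodule.subset_span ⟨b, rfl⟩)
  obtain ⟨e, he₁, -, he₃⟩ := Submodule.exists_fun_fin_finrank_span_eq k (Set.range row)
  have hfr : Module.finrank k ↥(Submodule.span k (Set.range row)) = r := by
    rw [hspan, finrank_top, Module.finrank_pi, Fintype.card_fin]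
  choose f hf using fun l : Fin r => (he₁ (Fin.cast hfr.symm l))
  refine ⟨f, ?_⟩
  rw [RingHom.map_det]
  refine IsUnit.ne_zero ((Matrix.isUnit_iff_isUnit_det (Matrix.of fun l j => row (f l) j)).1 ?_)
  refine Matrix.linearIndependent_rows_iff_isUnit.1 ?_
  have : (fun l => row (f l)) = e ∘ Fin.cast hfr.symm := funext hf
  show LinearIndependent k (fun l => row (f l))
  rw [this]
  exact he₃.comp _ (Fin.cast_injective _)

end Groth.L13.CIPic.Chart
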