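import Groth.Agent.L13.CIPic.Kaehler
import Mathlib.RingTheory.Nullstellensatz
import Mathlib.RingTheory.Localization.FractionRing
import Mathlib.RingTheory.MvPolynomial.Homogeneous
import Mathlib.FieldTheory.IsAlgClosed.Basic
import Mathlib.RingTheory.Polynomial.Basic

/-!
# Logarithmic forms on the cone over a complete intersection
-/

set_option autoImplicit false
set_option linter.style.haveILetI false
set_option backward.isDefEq.respectTransparency false
universe u

open MvPolynomial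

noncomputable section

namespace Groth.L13.CIPic.Cone

variable {k : Type u} [Field k] {N d : ℕ}

local notation "Rk" => MvPolynomial (Fin (N + 1)) k

/-- The standing hypotheses on the forms `g`. -/
structure Good (g : Fin d → Rk) (a : Fin d → ℕ) : Prop where
  hom : ∀ j, (g j).IsHomogeneous (a j)
  pos : ∀ j, 1 ≤ a j
  prime : (idl g).IsPrime
  minors : ∀ x : Fin (N + 1) → k, x ≠ 0 → (∀ j, eval x (g j) = 0) →
    ∃ f : Fin d → Fin (N + 1),
      eval x (Matrix.of fun (i j : Fin d) => pderiv (f i) (g j) : Matrix (Fin d) (Fin d) Rk).det ≠ 0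
  triple : ∃ u v w : Rk, u.IsHomogeneous 1 ∧ v.IsHomogeneous 1 ∧ w.IsHomogeneous 1 ∧
    ∀ r s t : ℕ, 1 ≤ r → 1 ≤ s → 1 ≤ t →
      (∀ y, u ^ r * y ∈ idl g → y ∈ idl g) ∧
      (∀ y, v ^ s * y ∈ idl g ⊔ Ideal.span {u ^ r} → y ∈ idl g ⊔ Ideal.span {u ^ r}) ∧
      (∀ y, w ^ t * y ∈ idl g ⊔ Ideal.span {u ^ r} ⊔ Ideal.span {v ^ s} →
        y ∈ idl g ⊔ Ideal.span {u ^ r} ⊔ Ideal.span {v ^ s})

theorem eval_zero_of_isHomogeneous {f : Rk} {e : ℕ} (hf : f.IsHomogeneous e) (he : 1 ≤ e) :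
    eval (0 : Fin (N + 1) → k) f = 0 := by
  rw [eval_zero, constantCoeff_eq]
  by_contra h
  have := hf (d := 0) h
  simp at this
  omega

/-- An ideal with no zero outside the origin contains a power of each linear form. -/
theorem exists_pow_mem [IsAlgClosed k] (J : Ideal Rk)
    (hJ : ∀ x : Fin (N + 1) → k, x ≠ 0 → ∃ f ∈ J, eval x f ≠ 0) {u : Rk} (hu : u.IsHomogeneous 1) :
    ∃ M : ℕ, 1 ≤ M ∧ u ^ M ∈ J := by
  have : u ∈ J.radical := by
    rw [← vanishingIdeal_zeroLocus_eq_radical (K := k) J, mem_vanishingIdeal_iff]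
    intro x hx
    by_cases h0 : x = 0
    · subst h0
      exact (congrFun (aeval_eq_eval (0 : Fin (N + 1) → k)) u).trans (eval_zero_of_isHomogeneous hu le_rfl)
    · obtain ⟨f, hf, hne⟩ := hJ x h0
      exact absurd ((congrFun (aeval_eq_eval x) f).symm.trans (mem_zeroLocus_iff.1 hx f hf)) hne
  obtain ⟨M, hM⟩ := this
  exact ⟨M + 1, Nat.le_add_left 1 M, Ideal.pow_mem_of_pow_mem J hM (Nat.le_succ M)⟩

theorem mk_mem_span_iff (g : Fin d → Rk) (c y : Rk) :
    Ideal.Quotient.mk (idl g) y ∈ Ideal.span {Ideal.Quotient.mk (idl g) c} ↔ y ∈ idl g ⊔ Ideal.span {c} := by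
  rw [show Ideal.span {Ideal.Quotient.mk (idl g) c} = (Ideal.span {c}).map (Ideal.Quotient.mk (idl g)) by
    rw [Ideal.map_span, Set.image_singleton]]
  rw [← Ideal.mem_comap, Ideal.comap_map_of_surjective _ Ideal.Quotient.mk_surjective, ← RingHom.ker_eq_comap_bot,
    Ideal.mk_ker, sup_comm]

theorem mk_mem_span_pair_iff (g : Fin d → Rk) (c c' y : Rk) :
    Ideal.Quotient.mk (idl g) y ∈ Ideal.span {Ideal.Quotient.mk (idl g) c} ⊔ Ideal.span {Ideal.Quotient.mk (idl g) c'} ↔
      y ∈ idl g ⊔ Ideal.span {c} ⊔ Ideal.span {c'} := by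
  rw [show Ideal.span {Ideal.Quotient.mk (idl g) c} ⊔ Ideal.span {Ideal.Quotient.mk (idl g) c'} =
      (Ideal.span {c} ⊔ Ideal.span {c'}).map (Ideal.Quotient.mk (idl g)) by
    rw [Ideal.map_sup, Ideal.map_span, Ideal.map_span, Set.image_singleton, Set.image_singleton]]
  rw [← Ideal.mem_comap, Ideal.comap_map_of_surjective _ Ideal.Quotient.mk_surjective, ← RingHom.ker_eq_comap_bot,
    Ideal.mk_ker, sup_comm, ← sup_assoc]

variable (g : Fin d → MvPolynomial (Fin (N + 1)) k)

/-- The ideal of maximal minors of the Jacobian. -/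
def minorsIdeal : Ideal (CR g) :=
  Ideal.span (Set.range fun f : Fin d → Fin (N + 1) =>
    (Matrix.of fun (i j : Fin d) => jac g (f i) j : Matrix (Fin d) (Fin d) (CR g)).det)

variable {g} {a : Fin d → ℕ}

theorem Good.exists_pow_mem_minors [IsAlgClosed k] (hg : Good g a) {u : Rk} (hu : u.IsHomogeneous 1) :
    ∃ M : ℕ, 1 ≤ M ∧ Ideal.Quotient.mk (idl g) u ^ M ∈ minorsIdeal g := by
  suffices key : ∀ x : Fin (N + 1) → k, x ≠ 0 →
      ∃ f ∈ (minorsIdeal g).comap (Ideal.Quotient.mk (idl g)), eval x f ≠ 0 by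
    obtain ⟨M, hM, hm⟩ := exists_pow_mem _ key hu
    exact ⟨M, hM, by simpa using hm⟩
  intro x hx
  by_cases h : ∀ j, eval x (g j) = 0
  · obtain ⟨f, hf⟩ := hg.minors x hx h
    refine ⟨_, ?_, hf⟩
    rw [Ideal.mem_comap, RingHom.map_det]
    exact Ideal.subset_span ⟨f, rfl⟩
  · push Not at h
    obtain ⟨j, hj⟩ := h
    refine ⟨g j, ?_, hj⟩
    rw [Ideal.mem_comap, show Ideal.Quotient.mk (idl g) (g j) = 0 from Ideal.Quotient.eq_zero_iff_mem.2 (Ideal.subset_span ⟨j, rfl⟩)]
    exact Ideal.zero_mem _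

theorem minorsIdeal_mul_mem (t : Fin d → CR g) {J : Ideal (CR g)} (h : ∀ b, jacMap g t b ∈ J) {m : CR g}
    (hm : m ∈ minorsIdeal g) (j : Fin d) : m * t j ∈ J := by
  induction hm using Submodule.span_induction with
  | mem x hx =>
    obtain ⟨f, rfl⟩ := hx
    exact det_smul_mem (jac g) f t (fun b => by rw [← jacMap_apply]; exact h b) j
  | zero => rw [zero_mul]; exact J.zero_mem
  | add x y _ _ hx hy => rw [add_mul]; exact J.add_mem hx hy
  | smul c x _ hx => rw [smul_eq_mul, mul_assoc]; exact J.mul_mem_left c hx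

/-- The forms on the function field of the cone. -/
abbrev frac (g : Fin d → MvPolynomial (Fin (N + 1)) k) := FractionRing (CR g)

/-- From coordinates to the function field. -/
def lamMap : (Fin (N + 1) → CR g) →ₗ[CR g] Ω[frac g⁄k] :=
  (KaehlerDifferential.map k k (CR g) (frac g)).comp (coordMap g)

/-- Forms killed in the function field come from relations. -/
theorem Good.mem_range_of_lamMap_eq_zero [IsAlgClosed k] (hg : Good g a) {c : Fin (N + 1) → CR g}
    (hc : lamMap c = 0) : c ∈ LinearMap.range (jacMap g) := by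
  haveI := hg.prime
  obtain ⟨⟨r, hr⟩, hrc⟩ := (IsLocalizedModule.eq_zero_iff (nonZeroDivisors (CR g))
    (KaehlerDifferential.map k k (CR g) (frac g))).1 hc
  have hr0 : r ≠ 0 := nonZeroDivisors.ne_zero hr
  obtain ⟨t, ht⟩ := mem_range_of_coordMap_eq_zero g (c := r • c) (by rw [map_smul]; exact hrc)
  -- the multipliers into the relations
  let T : Ideal (CR g) := (LinearMap.range (jacMap g)).comap ((LinearMap.id : CR g →ₗ[CR g] CR g).smulRight c)
  have hT : minorsIdeal g ≤ T := by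
    refine Ideal.span_le.2 ?_
    rintro _ ⟨f, rfl⟩
    show ((Matrix.of fun (i j : Fin d) => jac g (f i) j : Matrix (Fin d) (Fin d) (CR g)).det) • c ∈
      LinearMap.range (jacMap g)
    set D := (Matrix.of fun (i j : Fin d) => jac g (f i) j : Matrix (Fin d) (Fin d) (CR g)).det with hD
    have hmem : ∀ j, D * t j ∈ Ideal.span {r} := fun j => det_smul_mem (jac g) f t (fun b => by
      rw [← jacMap_apply, ht]
      exact Ideal.mul_mem_right _ _ (Ideal.mem_span_singleton_self r)) j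
    choose τ hτ using fun j => Ideal.mem_span_singleton'.1 (hmem j)
    refine ⟨τ, funext fun b => mul_left_cancel₀ hr0 ?_⟩
    calc r * jacMap g τ b = jacMap g (D • t) b := by
          simp only [jacMap_apply, Finset.mul_sum, Pi.smul_apply, smul_eq_mul]
          exact Finset.sum_congr rfl fun j _ => by rw [← hτ j]; ring
      _ = r * (D • c) b := by
          rw [map_smul, ht, Pi.smul_apply, Pi.smul_apply, Pi.smul_apply, smul_eq_mul, smul_eq_mul, smul_eq_mul]
          ring
  obtain ⟨u, v, w, hu, hv, hw, htr⟩ := hg.triple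
  obtain ⟨M, hM, huM⟩ := hg.exists_pow_mem_minors hu
  obtain ⟨M', hM', hvM⟩ := hg.exists_pow_mem_minors hv
  obtain ⟨t', ht'⟩ := hT huM
  obtain ⟨hW1, hW2, -⟩ := htr M M' 1 hM hM' le_rfl
  have hmem : ∀ j, t' j ∈ Ideal.span {Ideal.Quotient.mk (idl g) (u ^ M)} := fun j => by
    have h1 := minorsIdeal_mul_mem t' (J := Ideal.span {Ideal.Quotient.mk (idl g) (u ^ M)}) (fun b => by
      rw [ht', map_pow]
      exact Ideal.mul_mem_right _ _ (Ideal.mem_span_singleton_self _)) hvM j
    obtain ⟨y, hy⟩ := Ideal.Quotient.mk_surjective (t' j)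
    rw [← hy, mk_mem_span_iff]
    rw [← hy, ← map_pow, ← map_mul, mk_mem_span_iff] at h1
    exact hW2 y h1
  choose τ hτ using fun j => Ideal.mem_span_singleton'.1 (hmem j)
  refine ⟨τ, funext fun b => ?_⟩
  have hu0 : Ideal.Quotient.mk (idl g) u ^ M ≠ 0 := by
    rw [← map_pow]
    intro h
    have := hW1 1 (by rw [mul_one]; exact Ideal.Quotient.eq_zero_iff_mem.1 h)
    exact hg.prime.ne_top ((Ideal.eq_top_iff_one _).2 this)
  refine mul_left_cancel₀ hu0 ?_
  calc Ideal.Quotient.mk (idl g) u ^ M * jacMap g τ b = jacMap g t' b := by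
        simp only [jacMap_apply, Finset.mul_sum]
        exact Finset.sum_congr rfl fun j _ => by rw [← hτ j, map_pow]; ring
    _ = _ := congrFun ht' b

theorem Good.map_injective [IsAlgClosed k] (hg : Good g a) {η : Ω[CR g⁄k]}
    (h : KaehlerDifferential.map k k (CR g) (frac g) η = 0) : η = 0 := by
  obtain ⟨c, rfl⟩ := coordMap_surjective g η
  obtain ⟨t, rfl⟩ := hg.mem_range_of_lamMap_eq_zero h
  exact coordMap_jacMap g t

/-- A form regular off the origin is regular. -/
theorem Good.descend [IsAlgClosed k] (hg : Good g a) (ω : Ω[frac g⁄k])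
    (h : ∀ x : Fin (N + 1) → k, x ≠ 0 → (∀ j, eval x (g j) = 0) →
      ∃ s : Rk, eval x s ≠ 0 ∧ ∃ η : Ω[CR g⁄k],
        Ideal.Quotient.mk (idl g) s • ω = KaehlerDifferential.map k k (CR g) (frac g) η) :
    ∃ η : Ω[CR g⁄k], KaehlerDifferential.map k k (CR g) (frac g) η = ω := by
  haveI := hg.prime
  let J : Ideal (CR g) := (LinearMap.range (KaehlerDifferential.map k k (CR g) (frac g))).comap
    ((LinearMap.id : CR g →ₗ[CR g] CR g).smulRight ω)
  have hJ : ∀ x : Fin (N + 1) → k, x ≠ 0 → ∃ f ∈ J.comap (Ideal.Quotient.mk (idl g)), eval x f ≠ 0 := by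
    intro x hx
    by_cases hz : ∀ j, eval x (g j) = 0
    · obtain ⟨s, hs, η, hη⟩ := h x hx hz
      exact ⟨s, ⟨η, hη.symm⟩, hs⟩
    · push Not at hz
      obtain ⟨j, hj⟩ := hz
      refine ⟨g j, ?_, hj⟩
      show Ideal.Quotient.mk (idl g) (g j) ∈ J
      rw [show Ideal.Quotient.mk (idl g) (g j) = 0 from Ideal.Quotient.eq_zero_iff_mem.2 (Ideal.subset_span ⟨j, rfl⟩)]
      exact J.zero_mem
  obtain ⟨u, v, w, hu, hv, hw, htr⟩ := hg.triple
  obtain ⟨n, hn, hun⟩ := exists_pow_mem _ hJ hu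
  obtain ⟨m, hm, hvm⟩ := exists_pow_mem _ hJ hv
  obtain ⟨M, hM, hwM⟩ := hg.exists_pow_mem_minors hw
  obtain ⟨hW1, hW2, hW3⟩ := htr n m M hn hm hM
  set U := Ideal.Quotient.mk (idl g) (u ^ n) with hU
  set V := Ideal.Quotient.mk (idl g) (v ^ m) with hV
  obtain ⟨η₁, hη₁⟩ := hun
  obtain ⟨η₂, hη₂⟩ := hvm
  obtain ⟨c₁, rfl⟩ := coordMap_surjective g η₁
  obtain ⟨c₂, rfl⟩ := coordMap_surjective g η₂
  replace hη₁ : lamMap c₁ = U • ω := hη₁
  replace hη₂ : lamMap c₂ = V • ω := hη₂
  obtain ⟨t, ht⟩ := hg.mem_range_of_lamMap_eq_zero (c := V • c₁ - U • c₂) (by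
    rw [map_sub, map_smul, map_smul, hη₁, hη₂, sub_eq_zero]
    simp only [← IsScalarTower.algebraMap_smul (frac g) U, ← IsScalarTower.algebraMap_smul (frac g) V, smul_smul]
    rw [mul_comm])
  have hmem : ∀ j, t j ∈ Ideal.span {U} ⊔ Ideal.span {V} := fun j => by
    have h1 := minorsIdeal_mul_mem t (J := Ideal.span {U} ⊔ Ideal.span {V}) (fun b => by
      rw [ht]
      refine sub_mem (Ideal.mul_mem_right _ _ (Ideal.mem_sup_right (Ideal.mem_span_singleton_self _)))
        (Ideal.mul_mem_right _ _ (Ideal.mem_sup_left (Ideal.mem_span_singleton_self _)))) hwM j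
    obtain ⟨y, hy⟩ := Ideal.Quotient.mk_surjective (t j)
    rw [← hy, hU, hV, mk_mem_span_pair_iff]
    rw [← hy, hU, hV, ← map_pow, ← map_mul, mk_mem_span_pair_iff] at h1
    exact hW3 y h1
  have hmem' : ∀ j, ∃ t₁ t₂ : CR g, t j = t₁ * U + t₂ * V := fun j => by
    obtain ⟨x, hx, y, hy, hxy⟩ := Submodule.mem_sup.1 (hmem j)
    obtain ⟨t₁, rfl⟩ := Ideal.mem_span_singleton'.1 hx
    obtain ⟨t₂, rfl⟩ := Ideal.mem_span_singleton'.1 hy
    exact ⟨t₁, t₂, hxy.symm⟩
  choose t₁ t₂ ht12 using hmem'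
  have hte : t = U • t₁ + V • t₂ := funext fun j => by
    simp only [Pi.add_apply, Pi.smul_apply, smul_eq_mul, ht12]; ring
  have hkey : ∀ b, V * (c₁ b - jacMap g t₂ b) = U * (c₂ b + jacMap g t₁ b) := fun b => by
    have := congrFun ht b
    rw [hte, map_add, map_smul, map_smul] at this
    simp only [Pi.add_apply, Pi.smul_apply, Pi.sub_apply, smul_eq_mul] at this
    linear_combination -this
  have hdiv : ∀ b, ∃ h : CR g, c₁ b - jacMap g t₂ b = U * h := fun b => by
    obtain ⟨y, hy⟩ := Ideal.Quotient.mk_surjective (c₁ b - jacMap g t₂ b)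
    have : V * (c₁ b - jacMap g t₂ b) ∈ Ideal.span {U} := by
      rw [hkey]; exact Ideal.mul_mem_right _ _ (Ideal.mem_span_singleton_self _)
    rw [← hy, hU, hV, ← map_mul, mk_mem_span_iff] at this
    obtain ⟨h, hh⟩ := Ideal.mem_span_singleton'.1 ((mk_mem_span_iff g (u ^ n) y).2 (hW2 y this))
    exact ⟨h, by rw [← hy, ← hh, mul_comm]⟩
  choose h' hh using hdiv
  refine ⟨coordMap g h', ?_⟩
  show lamMap h' = ω
  have he : lamMap c₁ = U • lamMap h' := by
    rw [← map_smul, show c₁ = U • h' + jacMap g t₂ from funext fun b => by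
      simp only [Pi.add_apply, Pi.smul_apply, smul_eq_mul, ← hh]; ring, map_add,
      show lamMap (jacMap g t₂) = 0 from by
        rw [lamMap, LinearMap.comp_apply, coordMap_jacMap, map_zero], add_zero]
  have hU0 : algebraMap (CR g) (frac g) U ≠ 0 := by
    rw [Ne, IsFractionRing.to_map_eq_zero_iff]
    intro h0
    have := hW1 1 (by rw [mul_one]; exact Ideal.Quotient.eq_zero_iff_mem.1 h0)
    exact hg.prime.ne_top ((Ideal.eq_top_iff_one _).2 this)
  rw [hη₁, ← IsScalarTower.algebraMap_smul (frac g) U, ← IsScalarTower.algebraMap_smul (frac g) U (lamMap h')] at he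
  exact ((smul_right_injective _ hU0) he).symm

end Groth.L13.CIPic.Cone
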