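import Groth.Agent.L13.CIPic.Descend
import Mathlib.Algebra.Polynomial.Roots
import Mathlib.Algebra.CharP.Algebra
import Mathlib.LinearAlgebra.Dual.Lemmas

/-!
# Rational functions on a cone that are `p`-th powers up to units
-/

set_option autoImplicit false
set_option linter.style.haveILetI false
set_option backward.isDefEq.respectTransparency false
universe u

open MvPolynomial

noncomputable section

namespace Groth.L13.CIPic.Cone

variable {k : Type u} [Field k] {N d : ℕ} {g : Fin d → MvPolynomial (Fin (N + 1)) k} {a : Fin d → ℕ}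

local notation "Rk" => MvPolynomial (Fin (N + 1)) k
local notation "μ" => Ideal.Quotient.mk (idl g)

/-- The Euler derivation of the polynomial ring, into the quotient. -/
def eulerPoly (g : Fin d → Rk) : Derivation k Rk (CR g) :=
  MvPolynomial.mkDerivation k fun b => Ideal.Quotient.mk (idl g) (X b)

theorem eulerPoly_apply (f : Rk) : eulerPoly g f = μ (∑ b, X b * pderiv b f) := by
  induction f using MvPolynomial.induction_on with
  | C a => rw [← MvPolynomial.algebraMap_eq, Derivation.map_algebraMap]; simp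
  | add p q hp hq => simp only [map_add, hp, hq, mul_add, Finset.sum_add_distrib]
  | mul_X p i hp =>
    rw [Derivation.leibniz, hp, eulerPoly, mkDerivation_X, ← IsScalarTower.algebraMap_smul (CR g) p,
      ← IsScalarTower.algebraMap_smul (CR g) (X i : Rk), Ideal.Quotient.algebraMap_eq, smul_eq_mul, smul_eq_mul,
      ← map_mul, ← map_mul, ← map_add]
    congr 1
    simp only [pderiv_mul, mul_add, Finset.sum_add_distrib, Finset.mul_sum]
    rw [add_comm (p * X i)]
    congr 1
    · exact Finset.sum_congr rfl fun b _ => by ring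
    · simp [pderiv_X, Pi.single_apply, mul_comm]

theorem eulerPoly_of_isHomogeneous {f : Rk} {e : ℕ} (hf : f.IsHomogeneous e) : eulerPoly g f = e • μ f := by
  rw [eulerPoly_apply, hf.sum_X_mul_pderiv, map_nsmul]

theorem Good.eulerPoly_eq_zero (hg : Good g a) {f : Rk} (hf : f ∈ idl g) : eulerPoly g f = 0 := by
  induction hf using Submodule.span_induction with
  | mem x hx =>
    obtain ⟨j, rfl⟩ := hx
    have h0 : μ (g j) = 0 := Ideal.Quotient.eq_zero_iff_mem.2 (Ideal.subset_span ⟨j, rfl⟩)
    rw [eulerPoly_of_isHomogeneous (hg.hom j), h0]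
    exact smul_zero _
  | zero => exact map_zero _
  | add x y _ _ hx hy => rw [map_add, hx, hy, add_zero]
  | smul c x hx' hx =>
    have hx0 : algebraMap Rk (CR g) x = 0 := Ideal.Quotient.eq_zero_iff_mem.2 hx'
    rw [smul_eq_mul, Derivation.leibniz, hx, smul_zero, zero_add, ← IsScalarTower.algebraMap_smul (CR g) x, hx0]
    exact zero_mul _

/-- The Euler derivation of the cone. -/
def eulerQ (hg : Good g a) : Derivation k (CR g) (CR g) :=
  Derivation.mk'
    { toFun := fun x => Quotient.liftOn' x (eulerPoly g) fun p q h => by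
        rw [← sub_eq_zero, ← map_sub]
        exact hg.eulerPoly_eq_zero ((Submodule.quotientRel_def _).1 h)
      map_add' := fun x y => by
        obtain ⟨p, rfl⟩ := Ideal.Quotient.mk_surjective x
        obtain ⟨q, rfl⟩ := Ideal.Quotient.mk_surjective y
        exact map_add (eulerPoly g) p q
      map_smul' := fun c x => by
        obtain ⟨p, rfl⟩ := Ideal.Quotient.mk_surjective x
        exact (eulerPoly g).map_smul c p }
    fun x y => by
      obtain ⟨p, rfl⟩ := Ideal.Quotient.mk_surjective x
      obtain ⟨q, rfl⟩ := Ideal.Quotient.mk_surjective y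
      show eulerPoly g (p * q) = _
      rw [Derivation.leibniz, ← IsScalarTower.algebraMap_smul (CR g) p, ← IsScalarTower.algebraMap_smul (CR g) q]
      rfl

theorem eulerQ_of_isHomogeneous (hg : Good g a) {f : Rk} {e : ℕ} (hf : f.IsHomogeneous e) :
    eulerQ hg (μ f) = e • μ f := eulerPoly_of_isHomogeneous hf

theorem eulerQ_mem_vertex (hg : Good g a) (η : Ω[CR g⁄k]) :
    (eulerQ hg).liftKaehlerDifferential η ∈ Ideal.span (Set.range fun b => μ (X b)) := by
  obtain ⟨c, rfl⟩ := coordMap_surjective g η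
  rw [coordMap_apply, map_sum]
  refine Ideal.sum_mem _ fun b _ => ?_
  rw [map_smul, Derivation.liftKaehlerDifferential_comp_D, eulerQ_of_isHomogeneous hg (isHomogeneous_X k b), one_smul,
    smul_eq_mul]
  exact Ideal.mul_mem_left _ _ (Ideal.subset_span ⟨b, rfl⟩)

/-- The scaling of the variables. -/
def scalePoly (c : k) : Rk →ₐ[k] Rk := aeval fun b => C c * X b

theorem scalePoly_of_isHomogeneous (c : k) {f : Rk} {e : ℕ} (hf : f.IsHomogeneous e) :
    scalePoly c f = C (c ^ e) * f := by
  conv_rhs => rw [MvPolynomial.as_sum f]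
  conv_lhs => rw [MvPolynomial.as_sum f]
  rw [map_sum, Finset.mul_sum]
  refine Finset.sum_congr rfl fun s hs => ?_
  rw [scalePoly, aeval_monomial, algebraMap_eq]
  have hdeg : ∑ i ∈ s.support, s i = e := by
    have := hf (MvPolynomial.mem_support_iff.1 hs)
    rw [Finsupp.weight_apply] at this
    simpa [Finsupp.sum] using this
  rw [show (s.prod fun i n => (C c * X i : Rk) ^ n) =
      (s.prod fun _ n => (C c : Rk) ^ n) * s.prod fun i n => (X i : Rk) ^ n by
    simp only [mul_pow, Finsupp.prod, Finset.prod_mul_distrib]]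
  rw [show (s.prod fun _ n => (C c : Rk) ^ n) = C (c ^ e) by
    rw [Finsupp.prod, Finset.prod_pow_eq_pow_sum, hdeg, map_pow]]
  rw [monomial_eq]
  ring

theorem Good.scale_mem (hg : Good g a) (c : k) {f : Rk} (hf : f ∈ idl g) : scalePoly c f ∈ idl g := by
  induction hf using Submodule.span_induction with
  | mem x hx =>
    obtain ⟨j, rfl⟩ := hx
    rw [scalePoly_of_isHomogeneous c (hg.hom j)]
    exact Ideal.mul_mem_left _ _ (Ideal.subset_span ⟨j, rfl⟩)
  | zero => rw [map_zero]; exact Ideal.zero_mem _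
  | add x y _ _ hx hy => rw [map_add]; exact Ideal.add_mem _ hx hy
  | smul r x _ hx => rw [smul_eq_mul, map_mul]; exact Ideal.mul_mem_left _ _ hx

/-- The scaling of the cone. -/
def scaleQ (hg : Good g a) (c : k) : CR g →ₐ[k] CR g :=
  Ideal.Quotient.liftₐ (idl g) ((Ideal.Quotient.mkₐ k (idl g)).comp (scalePoly c)) fun f hf =>
    Ideal.Quotient.eq_zero_iff_mem.2 (hg.scale_mem c hf)

theorem scaleQ_mk (hg : Good g a) (c : k) (f : Rk) : scaleQ hg c (μ f) = μ (scalePoly c f) := rfl

theorem scaleQ_of_isHomogeneous (hg : Good g a) (c : k) {f : Rk} {e : ℕ} (hf : f.IsHomogeneous e) :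
    scaleQ hg c (μ f) = (c ^ e) • μ f := by
  rw [scaleQ_mk, scalePoly_of_isHomogeneous c hf, map_mul]
  exact (Algebra.smul_def (c ^ e) (μ f)).symm

theorem Good.mk_ne_zero_of_eval {f : Rk} {x : Fin (N + 1) → k} (hx : ∀ j, eval x (g j) = 0) (hf : eval x f ≠ 0) :
    μ f ≠ 0 := fun h => hf <| by
  have hle : idl g ≤ RingHom.ker (eval x) := Ideal.span_le.2 (Set.range_subset_iff.2 fun j => hx j)
  exact hle (Ideal.Quotient.eq_zero_iff_mem.1 h)

/-- An algebra map on differentials. -/
def kaehlerMap {A B : Type u} [CommRing A] [CommRing B] [Algebra k A] [Algebra k B] (σ : A →ₐ[k] B) :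
    Ω[A⁄k] →+ Ω[B⁄k] :=
  letI := σ.toRingHom.toAlgebra
  haveI : IsScalarTower k A B := IsScalarTower.of_algebraMap_eq fun c => (σ.commutes c).symm
  (KaehlerDifferential.map k k A B).toAddMonoidHom

theorem kaehlerMap_smul {A B : Type u} [CommRing A] [CommRing B] [Algebra k A] [Algebra k B] (σ : A →ₐ[k] B)
    (r : A) (x : Ω[A⁄k]) : kaehlerMap σ (r • x) = σ r • kaehlerMap σ x := by
  letI := σ.toRingHom.toAlgebra
  haveI : IsScalarTower k A B := IsScalarTower.of_algebraMap_eq fun c => (σ.commutes c).symm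
  exact ((KaehlerDifferential.map k k A B).map_smul r x).trans (IsScalarTower.algebraMap_smul B r _).symm

theorem kaehlerMap_D {A B : Type u} [CommRing A] [CommRing B] [Algebra k A] [Algebra k B] (σ : A →ₐ[k] B)
    (r : A) : kaehlerMap σ (KaehlerDifferential.D k A r) = KaehlerDifferential.D k B (σ r) := by
  letI := σ.toRingHom.toAlgebra
  haveI : IsScalarTower k A B := IsScalarTower.of_algebraMap_eq fun c => (σ.commutes c).symm
  exact KaehlerDifferential.map_D k k A B r

variable (p : ℕ) [CharP k p]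

/-- The hypothesis: near every point the ratio is a `p`-th power times a ratio of nonvanishing forms. -/
def LocPow (g : Fin d → Rk) (p : ℕ) (n D : Rk) : Prop :=
  ∀ x : Fin (N + 1) → k, x ≠ 0 → (∀ j, eval x (g j) = 0) → ∃ n' D' A B : Rk,
    eval x n' ≠ 0 ∧ eval x D' ≠ 0 ∧ A ∉ idl g ∧ B ∉ idl g ∧ n * D' * B ^ p - A ^ p * D * n' ∈ idl g

theorem exists_dlog [IsAlgClosed k] (hg : Good g a) {n D : Rk} (hn : n ∉ idl g) (hD : D ∉ idl g)
    (hloc : LocPow g p n D) :
    ∃ η : Ω[CR g⁄k], μ n • μ D • η =
      μ D • KaehlerDifferential.D k (CR g) (μ n) - μ n • KaehlerDifferential.D k (CR g) (μ D) := by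
  haveI := hg.prime
  haveI : CharP (frac g) p := charP_of_injective_ringHom (algebraMap k (frac g)).injective p
  let α := algebraMap (CR g) (frac g)
  let L : frac g → Ω[frac g⁄k] := fun z => z⁻¹ • KaehlerDifferential.D k (frac g) z
  have hLmul : ∀ {y z : frac g}, y ≠ 0 → z ≠ 0 → L (y * z) = L y + L z := fun {y z} hy hz => by
    have h1 : (y * z)⁻¹ * y = z⁻¹ := by field_simp
    have h2 : (y * z)⁻¹ * z = y⁻¹ := by field_simp
    simp only [L, Derivation.leibniz, smul_add, smul_smul, h1, h2]
    exact add_comm _ _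
  have hLpow : ∀ z : frac g, L (z ^ p) = 0 := fun z => by
    simp only [L, Derivation.leibniz_pow, ← Nat.cast_smul_eq_nsmul (frac g), CharP.cast_eq_zero, zero_smul, smul_zero]
  have hne : ∀ {f : Rk}, f ∉ idl g → α (μ f) ≠ 0 := fun hf h => hf (Ideal.Quotient.eq_zero_iff_mem.1
    (IsFractionRing.to_map_eq_zero_iff.1 h))
  let ω : Ω[frac g⁄k] := L (α (μ n)) - L (α (μ D))
  have hmapD : ∀ f : Rk, KaehlerDifferential.map k k (CR g) (frac g) (KaehlerDifferential.D k (CR g) (μ f)) =
      KaehlerDifferential.D k (frac g) (α (μ f)) := fun f => KaehlerDifferential.map_D _ _ _ _ _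
  have hclear : ∀ {y z : Rk}, α (μ y) ≠ 0 → α (μ z) ≠ 0 →
      μ (y * z) • (L (α (μ y)) - L (α (μ z))) = KaehlerDifferential.map k k (CR g) (frac g)
        (μ z • KaehlerDifferential.D k (CR g) (μ y) - μ y • KaehlerDifferential.D k (CR g) (μ z)) := fun {y z} hy hz => by
    have h1 : α (μ (y * z)) * (α (μ y))⁻¹ = α (μ z) := by rw [map_mul, map_mul]; field_simp
    have h2 : α (μ (y * z)) * (α (μ z))⁻¹ = α (μ y) := by rw [map_mul, map_mul]; field_simp
    rw [map_sub, map_smul, map_smul, hmapD, hmapD, ← IsScalarTower.algebraMap_smul (frac g) (μ (y * z)),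
      ← IsScalarTower.algebraMap_smul (frac g) (μ z), ← IsScalarTower.algebraMap_smul (frac g) (μ y), smul_sub]
    simp only [L, smul_smul]
    rw [show algebraMap (CR g) (frac g) (μ (y * z)) = α (μ (y * z)) from rfl, h1, h2]
  obtain ⟨η, hη⟩ := hg.descend ω fun x hx hz => by
    obtain ⟨n', D', A, B, hn', hD', hA, hB, hrel⟩ := hloc x hx hz
    have hn0 : α (μ n') ≠ 0 := fun h => Good.mk_ne_zero_of_eval hz hn' (IsFractionRing.to_map_eq_zero_iff.1 h)
    have hD0 : α (μ D') ≠ 0 := fun h => Good.mk_ne_zero_of_eval hz hD' (IsFractionRing.to_map_eq_zero_iff.1 h)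
    refine ⟨n' * D', by rw [map_mul]; exact mul_ne_zero hn' hD', ?_⟩
    have he : α (μ n) * α (μ D') * α (μ B) ^ p = α (μ A) ^ p * α (μ D) * α (μ n') := by
      simp only [← map_pow, ← map_mul]
      exact congrArg α (Ideal.Quotient.eq.2 hrel)
    have h1 := congrArg L he
    rw [hLmul (mul_ne_zero (hne hn) hD0) (pow_ne_zero _ (hne hB)), hLmul (hne hn) hD0,
      hLmul (mul_ne_zero (pow_ne_zero _ (hne hA)) (hne hD)) hn0, hLmul (pow_ne_zero _ (hne hA)) (hne hD),
      hLpow, hLpow, add_zero, zero_add] at h1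
    have hω : ω = L (α (μ n')) - L (α (μ D')) := by
      show L (α (μ n)) - L (α (μ D)) = _
      rw [sub_eq_sub_iff_add_eq_add, h1]
      exact add_comm _ _
    rw [hω]
    exact ⟨_, hclear hn0 hD0⟩
  refine ⟨η, sub_eq_zero.1 (hg.map_injective ?_)⟩
  rw [map_sub, map_smul, map_smul, hη, ← hclear (hne hn) (hne hD), sub_eq_zero]
  rw [map_mul, ← IsScalarTower.algebraMap_smul (frac g) (μ n * μ D), map_mul,
    ← IsScalarTower.algebraMap_smul (frac g) (μ n), ← IsScalarTower.algebraMap_smul (frac g) (μ D), smul_smul]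

/-- The degrees of the numerator and the denominator agree modulo `p`. -/
theorem degree_eq [IsAlgClosed k] (hg : Good g a) {n D : Rk} {e e' : ℕ} (hnh : n.IsHomogeneous e')
    (hDh : D.IsHomogeneous e) (hn : n ∉ idl g) (hD : D ∉ idl g) (hloc : LocPow g p n D)
    {x : Fin (N + 1) → k} (hx : ∀ j, eval x (g j) = 0) : ((e' : k) - (e : k)) = 0 := by
  haveI := hg.prime
  obtain ⟨η, hη⟩ := exists_dlog p hg hn hD hloc
  by_contra hc
  have h := congrArg (eulerQ hg).liftKaehlerDifferential hη
  rw [map_smul, map_smul, map_sub, map_smul, map_smul, Derivation.liftKaehlerDifferential_comp_D,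
    Derivation.liftKaehlerDifferential_comp_D, eulerQ_of_isHomogeneous hg hnh, eulerQ_of_isHomogeneous hg hDh] at h
  have hn0 : μ n ≠ 0 := fun h0 => hn (Ideal.Quotient.eq_zero_iff_mem.1 h0)
  have hD0 : μ D ≠ 0 := fun h0 => hD (Ideal.Quotient.eq_zero_iff_mem.1 h0)
  set z := (eulerQ hg).liftKaehlerDifferential η with hz
  have hz' : z = algebraMap k (CR g) ((e' : k) - (e : k)) := by
    refine mul_left_cancel₀ (mul_ne_zero hn0 hD0) ?_
    simp only [smul_eq_mul, nsmul_eq_mul] at h
    rw [map_sub, map_natCast, map_natCast]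
    linear_combination h
  have hmem := eulerQ_mem_vertex hg η
  rw [← hz, hz'] at hmem
  have hle : idl g ≤ RingHom.ker (eval (0 : Fin (N + 1) → k)) := Ideal.span_le.2 (Set.range_subset_iff.2 fun j =>
    eval_zero_of_isHomogeneous (hg.hom j) (hg.pos j))
  let ev : CR g →+* k := Ideal.Quotient.lift (idl g) (eval (0 : Fin (N + 1) → k)) fun f hf => hle hf
  have hker : Ideal.span (Set.range fun b => μ (X b)) ≤ RingHom.ker ev :=
    Ideal.span_le.2 (Set.range_subset_iff.2 fun b => by
      show eval (0 : Fin (N + 1) → k) (X b) = 0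
      simp)
  have h0 : ev (algebraMap k (CR g) ((e' : k) - (e : k))) = 0 := RingHom.mem_ker.1 (hker hmem)
  refine hc ?_
  rwa [show algebraMap k (CR g) ((e' : k) - (e : k)) = μ (C ((e' : k) - (e : k))) from rfl, Ideal.Quotient.lift_mk,
    eval_C] at h0

/-- In degree zero the differential of the ratio vanishes. -/
theorem D_eq_zero [IsAlgClosed k] (hg : Good g a) {n D : Rk} {e : ℕ} (hnh : n.IsHomogeneous e)
    (hDh : D.IsHomogeneous e) (hn : n ∉ idl g) (hD : D ∉ idl g) (hloc : LocPow g p n D)
    {F : Type u} [Field F] [Algebra k F] (π : CR g →ₐ[k] F) (hπ : π (μ D) ≠ 0) :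
    KaehlerDifferential.D k F (π (μ n) / π (μ D)) = 0 := by
  classical
  haveI := hg.prime
  obtain ⟨η, hη⟩ := exists_dlog p hg hn hD hloc
  have hn0 : μ n ≠ 0 := fun h0 => hn (Ideal.Quotient.eq_zero_iff_mem.1 h0)
  have hD0 : μ D ≠ 0 := fun h0 => hD (Ideal.Quotient.eq_zero_iff_mem.1 h0)
  have hη0 : η = 0 := by
    obtain ⟨c, hc⟩ := coordMap_surjective g η
    choose h hh using fun b => Ideal.Quotient.mk_surjective (c b)
    let T := ∑ b, (h b).totalDegree
    -- the homogeneous pieces
    let P : ℕ → Ω[CR g⁄k] := fun t => ∑ b, μ (homogeneousComponent t (h b)) • KaehlerDifferential.D k (CR g) (μ (X b))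
    have hsum : η = ∑ t ∈ Finset.range (T + 1), P t := by
      rw [← hc, coordMap_apply, Finset.sum_comm]
      refine Finset.sum_congr rfl fun b _ => ?_
      refine Eq.trans ?_ (map_sum (LinearMap.toSpanSingleton (CR g) Ω[CR g⁄k]
        (KaehlerDifferential.D k (CR g) (μ (X b)))) _ _)
      rw [LinearMap.toSpanSingleton_apply, ← hh b]
      refine congrArg (· • _) ?_
      refine Eq.trans (congrArg μ ?_) (map_sum μ _ _)
      conv_lhs => rw [← sum_homogeneousComponent (h b)]
      refine Finset.sum_subset (fun t ht => ?_) fun t _ ht => ?_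
      · simp only [Finset.mem_range] at ht ⊢
        have : (h b).totalDegree ≤ T :=
          Finset.single_le_sum (f := fun b => (h b).totalDegree) (fun _ _ => Nat.zero_le _) (Finset.mem_univ b)
        omega
      · exact homogeneousComponent_eq_zero _ _ (by simpa [Nat.lt_succ_iff] using ht)
    have scomm : ∀ (c : k) (r : CR g) (z : Ω[CR g⁄k]), r • c • z = c • r • z := fun c r z =>
      LinearMap.map_smul_of_tower (LinearMap.lsmul (CR g) Ω[CR g⁄k] r) c z
    have hscale : ∀ c : k, c ≠ 0 → η = ∑ t ∈ Finset.range (T + 1), (c ^ (t + 1)) • P t := by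
      intro c hc0
      -- the scaling on differentials
      let σ := scaleQ hg c
      let S : Ω[CR g⁄k] →+ Ω[CR g⁄k] := (kaehlerMap σ)
      have hS : S η = η := by
        have h1 := congrArg S hη
        simp only [S, map_sub, kaehlerMap_smul, kaehlerMap_D, σ] at h1
        rw [scaleQ_of_isHomogeneous hg c hnh, scaleQ_of_isHomogeneous hg c hDh, Derivation.map_smul,
          Derivation.map_smul] at h1
        simp only [smul_assoc, scomm] at h1
        rw [← smul_sub, ← smul_sub, ← hη] at h1
        have h3 := smul_right_injective Ω[CR g⁄k] (pow_ne_zero e hc0)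
          (smul_right_injective Ω[CR g⁄k] (pow_ne_zero e hc0) h1)
        have h4 := congrArg (KaehlerDifferential.map k k (CR g) (frac g)) h3
        rw [map_smul, map_smul, map_smul, map_smul, ← IsScalarTower.algebraMap_smul (frac g) (μ n),
          ← IsScalarTower.algebraMap_smul (frac g) (μ n), ← IsScalarTower.algebraMap_smul (frac g) (μ D),
          ← IsScalarTower.algebraMap_smul (frac g) (μ D)] at h4
        have hne : ∀ {z : CR g}, z ≠ 0 → algebraMap (CR g) (frac g) z ≠ 0 := fun hz h =>
          hz (IsFractionRing.to_map_eq_zero_iff.1 h)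
        have h5 := smul_right_injective _ (hne hD0) (smul_right_injective _ (hne hn0) h4)
        exact sub_eq_zero.1 (hg.map_injective (by rw [map_sub, h5, sub_self]))
      rw [← hS, hsum, map_sum]
      refine Finset.sum_congr rfl fun t _ => ?_
      simp only [S, P, map_sum, Finset.smul_sum, kaehlerMap_smul, kaehlerMap_D]
      refine Finset.sum_congr rfl fun b _ => ?_
      rw [scaleQ_of_isHomogeneous hg c (homogeneousComponent_isHomogeneous t (h b)),
        scaleQ_of_isHomogeneous hg c (isHomogeneous_X k b), Derivation.map_smul, smul_assoc,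
        scomm, smul_smul, ← pow_add]
    by_contra hne
    obtain ⟨φ, hφ⟩ := Module.Projective.exists_dual_ne_zero k hne
    let Q : Polynomial k := (∑ t ∈ Finset.range (T + 1), Polynomial.monomial (t + 1) (φ (P t))) - Polynomial.C (φ η)
    have hQ : Q = 0 := by
      refine Polynomial.eq_zero_of_infinite_isRoot Q (Set.Infinite.mono (s := {c : k | c ≠ 0}) (fun c hc0 => ?_)
        (Set.infinite_of_finite_compl (by simp [Set.compl_ne_eq_singleton])))
      have := congrArg φ (hscale c hc0)
      simp only [map_sum, map_smul, smul_eq_mul] at this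
      show Polynomial.IsRoot Q c
      simp [Q, Polynomial.IsRoot, Polynomial.eval_finset_sum, this, mul_comm]
    have := congrArg (Polynomial.coeff · 0) hQ
    simp [Q, Polynomial.coeff_monomial] at this
    exact hφ this
  rw [hη0, smul_zero, smul_zero] at hη
  have h := congrArg (kaehlerMap π) hη
  rw [map_zero, map_sub, kaehlerMap_smul, kaehlerMap_smul, kaehlerMap_D, kaehlerMap_D, eq_comm, sub_eq_zero] at h
  rw [Derivation.leibniz_div, ← h]
  simp

end Groth.L13.CIPic.Cone
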