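import Groth.Agent.L18.CIProjRing
import Mathlib.GroupTheory.CosetCover

/-!
# Three linear forms regular on a complete intersection
-/

set_option autoImplicit false
set_option linter.style.haveILetI false
set_option backward.isDefEq.respectTransparency false
universe u

open MvPolynomial

noncomputable section

namespace Groth.L13.CIPic

open Groth.L18.CIProjRing Groth.L22.ProjDict

variable {k : Type u} [Field k] {n : ℕ}

local notation "Rk" => MvPolynomial (Fin (n + 1)) k

theorem span_range_snoc {r : ℕ} (g : Fin r → Rk) (u : Rk) :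
    Ideal.span (Set.range (Fin.snoc g u : Fin (r + 1) → Rk)) =
      Ideal.span (Set.range g) ⊔ Ideal.span {u} := by
  rw [← Ideal.span_union]
  refine congrArg Ideal.span (Set.ext fun x => ⟨?_, ?_⟩)
  · rintro ⟨j, rfl⟩
    induction j using Fin.lastCases with
    | last => exact Or.inr (by simp)
    | cast j => exact Or.inl ⟨j, by simp⟩
  · rintro (⟨j, rfl⟩ | rfl)
    · exact ⟨j.castSucc, by simp⟩
    · exact ⟨Fin.last r, by simp⟩

theorem isHomogeneous_snoc {r : ℕ} {g : Fin r → Rk} {a : Fin r → ℕ} (hg : ∀ j, (g j).IsHomogeneous (a j))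
    {u : Rk} {e : ℕ} (hu : u.IsHomogeneous e) (j : Fin (r + 1)) :
    ((Fin.snoc g u : Fin (r + 1) → Rk) j).IsHomogeneous ((Fin.snoc a e : Fin (r + 1) → ℕ) j) := by
  induction j using Fin.lastCases with
  | last => simpa using hu
  | cast j => simpa using hg j

theorem one_le_snoc {r : ℕ} {a : Fin r → ℕ} (ha : ∀ j, 1 ≤ a j) {e : ℕ} (he : 1 ≤ e) (j : Fin (r + 1)) :
    1 ≤ (Fin.snoc a e : Fin (r + 1) → ℕ) j := by
  induction j using Fin.lastCases with
  | last => simpa using he
  | cast j => simpa using ha j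

/-- Powers of the last member do not matter. -/
theorem IsCI_snoc_pow {r : ℕ} {g g' : Fin r → Rk} {u : Rk} {s : ℕ}
    (hgg : ∀ P : Ideal Rk, P.IsPrime → Ideal.span (Set.range g') ≤ P → Ideal.span (Set.range g) ≤ P)
    (h : IsCI (Fin.snoc g u : Fin (r + 1) → Rk)) : IsCI (Fin.snoc g' (u ^ s) : Fin (r + 1) → Rk) := by
  intro P hP hle
  refine h P hP ?_
  rw [span_range_snoc] at hle ⊢
  refine sup_le (hgg P hP (le_sup_left.trans hle)) ?_
  rw [Ideal.span_singleton_le_iff_mem]
  exact hP.mem_of_pow_mem s ((Ideal.span_singleton_le_iff_mem _).1 (le_sup_right.trans hle))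

/-- A linear form cutting down a complete intersection. -/
theorem exists_linear_snoc [Infinite k] {r : ℕ} {g : Fin r → Rk} {a : Fin r → ℕ}
    (hg : ∀ j, (g j).IsHomogeneous (a j)) (hr : r ≤ n) (hci : IsCI g) :
    ∃ u : Rk, u.IsHomogeneous 1 ∧ IsCI (Fin.snoc g u : Fin (r + 1) → Rk) := by
  classical
  let T : Set (Ideal Rk) := {Q | Q ∈ (Ideal.span (Set.range g)).minimalPrimes ∧ Q ≠ vertex k n}
  haveI : Finite T := ((Ideal.finite_minimalPrimes_of_isNoetherianRing _
    (Ideal.span (Set.range g))).subset fun Q hQ => hQ.1).to_subtype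
  let W : T → Submodule k (homogeneousSubmodule (Fin (n + 1)) k 1) := fun Q =>
    (Submodule.restrictScalars k Q.1).comap (homogeneousSubmodule (Fin (n + 1)) k 1).subtype
  have hW : ∀ Q : T, W Q ≠ ⊤ := by
    intro Q htop
    have hQ := Q.2.1
    haveI := hQ.1.1
    refine Q.2.2 (le_antisymm
      (le_vertex (isHomogeneous_of_mem_minimalPrimes (span_isHomogeneous hg) hQ) hQ.1.1.ne_top) ?_)
    have hX : ∀ b, (X b : Rk) ∈ Q.1 := fun b => by
      have : (⟨X b, (mem_homogeneousSubmodule _ _).2 (isHomogeneous_X k b)⟩ :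
          homogeneousSubmodule (Fin (n + 1)) k 1) ∈ W Q := htop ▸ Submodule.mem_top
      exact this
    intro f hf
    rw [MvPolynomial.as_sum f]
    refine Ideal.sum_mem _ fun s hs => ?_
    by_cases hs0 : s = 0
    · subst hs0
      have hc : coeff 0 f = 0 := by
        have : constantCoeff f = 0 := RingHom.mem_ker.1 hf
        rwa [constantCoeff_eq] at this
      rw [hc, monomial_zero]
      exact Ideal.zero_mem _
    · obtain ⟨b, hb⟩ : ∃ b, s b ≠ 0 := not_forall.1 fun h => hs0 (Finsupp.ext h)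
      obtain ⟨c, hc⟩ := (monomial_one_dvd_monomial_one (R := k)).2
        (show Finsupp.single b 1 ≤ s by
          rw [Finsupp.single_le_iff]; omega)
      rw [show monomial s (coeff s f) = C (coeff s f) * monomial s (1 : k) by rw [C_mul_monomial, mul_one], hc,
        show monomial (Finsupp.single b 1) (1 : k) = X b from rfl]
      exact Ideal.mul_mem_left _ _ (Ideal.mul_mem_right _ _ (hX b))
  obtain ⟨⟨u, hu⟩, hu'⟩ : ∃ u : homogeneousSubmodule (Fin (n + 1)) k 1, ∀ Q : T, u ∉ W Q := by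
    by_contra hc
    push Not at hc
    obtain ⟨Q, hQ⟩ := Subspace.exists_eq_top_of_iUnion_eq_univ (p := W)
      (Set.eq_univ_of_forall fun u => Set.mem_iUnion.2 (hc u))
    exact hW Q hQ
  refine ⟨u, (mem_homogeneousSubmodule _ _).1 hu, fun P hP hle => ?_⟩
  rw [span_range_snoc] at hle
  obtain ⟨Q, hQ, hQP⟩ := Ideal.exists_minimalPrimes_le (le_sup_left.trans hle)
  haveI := hQ.1.1
  haveI := hP
  by_cases hv : Q = vertex k n
  · refine le_trans (add_le_add_left ((dim_le_of_le hQP).trans (by rw [hv, dim_vertex])) _) ?_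
    rw [zero_add]
    exact_mod_cast (show r + 1 ≤ n + 1 by omega)
  · have hne : u ∉ Q := hu' ⟨Q, hQ, hv⟩
    have hlt : Q < P := lt_of_le_of_ne hQP fun h =>
      hne (h ▸ (Ideal.span_singleton_le_iff_mem _).1 (le_sup_right.trans hle))
    refine le_trans ?_ (hci Q hQ.1.1 hQ.1.2)
    refine le_trans (le_of_eq ?_) (add_le_add_left (dim_lt hlt) _)
    rw [Nat.cast_add, Nat.cast_one, add_assoc, add_comm (1 : WithBot ℕ∞)]

/-- Three linear forms whose powers are regular modulo a complete intersection. -/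
theorem exists_regular_triple [Infinite k] {d : ℕ} {g : Fin d → Rk} {a : Fin d → ℕ}
    (hg : ∀ j, (g j).IsHomogeneous (a j)) (ha : ∀ j, 1 ≤ a j) (hd : d + 2 ≤ n) (hci : IsCI g) :
    ∃ u v w : Rk, u.IsHomogeneous 1 ∧ v.IsHomogeneous 1 ∧ w.IsHomogeneous 1 ∧
      ∀ r s t : ℕ, 1 ≤ r → 1 ≤ s → 1 ≤ t →
        (∀ y, u ^ r * y ∈ Ideal.span (Set.range g) → y ∈ Ideal.span (Set.range g)) ∧
        (∀ y, v ^ s * y ∈ Ideal.span (Set.range g) ⊔ Ideal.span {u ^ r} →
          y ∈ Ideal.span (Set.range g) ⊔ Ideal.span {u ^ r}) ∧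
        (∀ y, w ^ t * y ∈ Ideal.span (Set.range g) ⊔ Ideal.span {u ^ r} ⊔ Ideal.span {v ^ s} →
          y ∈ Ideal.span (Set.range g) ⊔ Ideal.span {u ^ r} ⊔ Ideal.span {v ^ s}) := by
  obtain ⟨u, hu, hci1⟩ := exists_linear_snoc hg (by omega) hci
  obtain ⟨v, hv, hci2⟩ := exists_linear_snoc (isHomogeneous_snoc hg hu) (by omega) hci1
  obtain ⟨w, hw, hci3⟩ := exists_linear_snoc (isHomogeneous_snoc (isHomogeneous_snoc hg hu) hv) (by omega) hci2
  refine ⟨u, v, w, hu, hv, hw, fun r s t hr hs ht => ?_⟩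
  have hur : (u ^ r).IsHomogeneous r := by simpa using hu.pow r
  have hvs : (v ^ s).IsHomogeneous s := by simpa using hv.pow s
  have hwt : (w ^ t).IsHomogeneous t := by simpa using hw.pow t
  have c1 : IsCI (Fin.snoc g (u ^ r) : Fin (d + 1) → Rk) := IsCI_snoc_pow (fun _ _ h => h) hci1
  have hg1 := isHomogeneous_snoc hg hur
  have ha1 := one_le_snoc ha hr
  have p1 : ∀ P : Ideal Rk, P.IsPrime → Ideal.span (Set.range (Fin.snoc g (u ^ r) : Fin (d + 1) → Rk)) ≤ P →
      Ideal.span (Set.range (Fin.snoc g u : Fin (d + 1) → Rk)) ≤ P := by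
    intro P hP h
    rw [span_range_snoc] at h ⊢
    refine sup_le (le_sup_left.trans h) ?_
    rw [Ideal.span_singleton_le_iff_mem]
    exact hP.mem_of_pow_mem r ((Ideal.span_singleton_le_iff_mem _).1 (le_sup_right.trans h))
  have c2 : IsCI (Fin.snoc (Fin.snoc g (u ^ r) : Fin (d + 1) → Rk) (v ^ s) : Fin (d + 1 + 1) → Rk) :=
    IsCI_snoc_pow p1 hci2
  have c3 : IsCI (Fin.snoc (Fin.snoc (Fin.snoc g (u ^ r) : Fin (d + 1) → Rk) (v ^ s) : Fin (d + 1 + 1) → Rk)
      (w ^ t) : Fin (d + 1 + 1 + 1) → Rk) := by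
    refine IsCI_snoc_pow (fun P hP h => ?_) hci3
    rw [span_range_snoc] at h ⊢
    refine sup_le (p1 P hP (le_sup_left.trans h)) ?_
    rw [Ideal.span_singleton_le_iff_mem]
    exact hP.mem_of_pow_mem s ((Ideal.span_singleton_le_iff_mem _).1 (le_sup_right.trans h))
  refine ⟨fun y hy => ?_, fun y hy => ?_, fun y hy => ?_⟩
  · have := mem_of_mul_last hg1 ha1 c1 (y := y) (by simpa using hy)
    simpa using this
  · have := mem_of_mul_last (isHomogeneous_snoc hg1 hvs) (one_le_snoc ha1 hs) c2 (y := y)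
      (by simpa [Fin.range_snoc, Ideal.span_insert, sup_comm, sup_left_comm] using hy)
    simpa [Fin.range_snoc, Ideal.span_insert, sup_comm, sup_left_comm] using this
  · have := mem_of_mul_last (isHomogeneous_snoc (isHomogeneous_snoc hg1 hvs) hwt)
      (one_le_snoc (one_le_snoc ha1 hs) ht) c3 (y := y) (by simpa [Fin.range_snoc, Ideal.span_insert, sup_comm, sup_left_comm] using hy)
    simpa [Fin.range_snoc, Ideal.span_insert, sup_comm, sup_left_comm] using this

end Groth.L13.CIPic
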