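import Groth.Agent.L13.CIPic.Algebraize
import Groth.Agent.L13.CIPic.Charts
import Groth.Agent.L13.CIPic.Triple
import Groth.Agent.L13.CIPic.Dlog
import Groth.Agent.L18.CIProjConn
import Groth.Agent.L22.CurveQuot

/-!
# The function field of a smooth complete intersection surface and its homogeneous coordinates
-/

set_option autoImplicit false
set_option linter.style.haveILetI false
set_option linter.unusedSectionVars false
set_option backward.isDefEq.respectTransparency false
set_option backward.isDefEq.respectTransparency.types false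
universe u

open CategoryTheory CategoryTheory.Limits AlgebraicGeometry TopologicalSpace MvPolynomial

noncomputable section

namespace Groth.L13.CIPic.Chart

open Groth.L18.CIProj (deh deh_form deh_surjective pols)
open Groth.L18.Frame (rs ro IsFrame pull)
open Groth.L21.PlaneCurve (chartFrame isFrame_chartFrame dehom_smul_chartFrame)

variable {k : Type u} [Field k] {n : ℕ}

local notation "Rk" => MvPolynomial (Fin (n + 1)) k

/-- Homogenisation with respect to a variable. -/
def hgz (i : Fin (n + 1)) (T : ℕ) (f : Rk) : Rk :=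
  ∑ t ∈ Finset.range (T + 1), homogeneousComponent t f * X i ^ (T - t)

theorem isHomogeneous_hgz (i : Fin (n + 1)) (T : ℕ) (f : Rk) : (hgz i T f).IsHomogeneous T := by
  refine IsHomogeneous.sum _ _ _ fun t ht => ?_
  have := (homogeneousComponent_isHomogeneous t f).mul ((isHomogeneous_X k i).pow (T - t))
  rwa [one_mul, Nat.add_sub_cancel' (Nat.lt_succ_iff.1 (Finset.mem_range.1 ht))] at this

theorem map_hgz {S : Type*} [CommRing S] (φ : Rk →+* S) {i : Fin (n + 1)} (hi : φ (X i) = 1) {T : ℕ} {f : Rk}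
    (hT : f.totalDegree ≤ T) : φ (hgz i T f) = φ f := by
  have h1 : ∑ t ∈ Finset.range (T + 1), homogeneousComponent t f = f := by
    refine Eq.trans (Finset.sum_subset (fun t ht => ?_) fun t _ ht => ?_).symm (sum_homogeneousComponent f)
    · simp only [Finset.mem_range] at ht ⊢; omega
    · exact homogeneousComponent_eq_zero _ _ (by simpa [Nat.lt_succ_iff] using ht)
  conv_rhs => rw [← h1, map_sum]
  rw [hgz, map_sum]
  refine Finset.sum_congr rfl fun t _ => ?_
  rw [map_mul, map_pow, hi, one_pow, mul_one]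

/-- Scaling of the arguments of a form. -/
theorem eval_smul_of_isHomogeneous {f : Rk} {e : ℕ} (hf : f.IsHomogeneous e) (c : k) (x : Fin (n + 1) → k) :
    eval (fun b => c * x b) f = c ^ e * eval x f := by
  have h := congrArg (eval x) (Cone.scalePoly_of_isHomogeneous c hf)
  rw [map_mul, eval_C] at h
  rw [← h]
  suffices hs : (aeval x).comp (Cone.scalePoly c) = aeval fun b => c * x b from
    ((DFunLike.congr_fun hs f).trans (congrFun (aeval_eq_eval _) f)).symm.trans (by rw [AlgHom.comp_apply]; rfl)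
  refine MvPolynomial.algHom_ext fun b => ?_
  simp [Cone.scalePoly]

/-- Comparison of the standard frames. -/
theorem chartFrame_eq {c : ℕ} (a b : Fin (n + 1)) :
    rs (Twist.twistProjSpace n k (c : ℤ)) (inf_le_left : LefPen.chart n k a ⊓ LefPen.chart n k b ≤ _) (chartFrame c a) =
      ro (inf_le_right : LefPen.chart n k a ⊓ LefPen.chart n k b ≤ _) (deh b (X a ^ c)) •
        rs (Twist.twistProjSpace n k (c : ℤ)) inf_le_right (chartFrame c b) := by
  let F : LefPen.Form n k c := ⟨X a ^ c, (mem_homogeneousSubmodule _ _).2 (by simpa using (isHomogeneous_X k a).pow c)⟩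
  have h1 := congrArg (rs (Twist.twistProjSpace n k (c : ℤ)) (inf_le_left : LefPen.chart n k a ⊓ LefPen.chart n k b ≤ _))
    (dehom_smul_chartFrame F a)
  have h2 := congrArg (rs (Twist.twistProjSpace n k (c : ℤ)) (inf_le_right : LefPen.chart n k a ⊓ LefPen.chart n k b ≤ _))
    (dehom_smul_chartFrame F b)
  rw [Groth.L18.Frame.rs_smul, Groth.L18.Frame.rs_rs] at h1 h2
  rw [← deh_form] at h1 h2
  have ha : deh a F.1 = 1 := by
    show deh a (X a ^ c) = 1
    rw [map_pow]
    have : deh (k := k) a (X a) = 1 := by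
      show (Proj.awayToSection (CohB1.polyGrading n k) (X a : Rk)).hom
        (Groth.L16.ProjSpace.toAway n k a (Groth.L16.ProjSpace.dehom n k a (X a))) = 1
      refine (congrArg _ ?_).trans (map_one _)
      exact (congrArg (Groth.L16.ProjSpace.toAway n k a) (Groth.L16.ProjSpace.dehom_X_self n k a)).trans (map_one _)
    rw [this, one_pow]
  rw [ha, ro, map_one, one_smul] at h1
  exact h1.trans h2.symm

/-- A form expressed on two charts. -/
theorem deh_rel {e : ℕ} (F : LefPen.Form n k e) (a b : Fin (n + 1)) :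
    ro (inf_le_left : LefPen.chart n k a ⊓ LefPen.chart n k b ≤ _) (deh a F.1) *
      ro (inf_le_right : LefPen.chart n k a ⊓ LefPen.chart n k b ≤ _) (deh b (X a ^ e)) =
    ro (inf_le_right : LefPen.chart n k a ⊓ LefPen.chart n k b ≤ _) (deh b F.1) := by
  refine ((isFrame_chartFrame e b).mono (inf_le_right : LefPen.chart n k a ⊓ LefPen.chart n k b ≤ _)).inj le_rfl ?_
  rw [Groth.L18.Frame.rs_self, mul_smul, ← chartFrame_eq, deh_form, deh_form, ← Groth.L18.Frame.rs_smul,
    ← Groth.L18.Frame.rs_smul, dehom_smul_chartFrame, dehom_smul_chartFrame, Groth.L18.Frame.rs_rs,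
    Groth.L18.Frame.rs_rs]

variable {r : ℕ} {a : Fin r → ℕ} (G : ∀ j, LefPen.Form n k (a j))

/-- A form expressed on two charts of the complete intersection. -/
theorem ρ_rel {e : ℕ} {f : Rk} (hf : f.IsHomogeneous e) (a b : Fin (n + 1)) :
    ro (inf_le_left : V G a ⊓ V G b ≤ V G a) (ρ G a f) *
      ro (inf_le_right : V G a ⊓ V G b ≤ V G b) (ρ G b (X a ^ e)) =
    ro (inf_le_right : V G a ⊓ V G b ≤ V G b) (ρ G b f) := by
  have h := congrArg ((LefPen.ciIdeal G).subschemeι.app (LefPen.chart n k a ⊓ LefPen.chart n k b))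
    (deh_rel (⟨f, (mem_homogeneousSubmodule _ _).2 hf⟩ : LefPen.Form n k e) a b)
  rw [map_mul, Groth.L20.PicThick.app_ro, Groth.L20.PicThick.app_ro, Groth.L20.PicThick.app_ro] at h
  exact h

/-- The pulled frames of a twist on a chart. -/
def cfr (c : ℕ) (i : Fin (n + 1)) :
    Γ(Groth.L21.PlaneCurve.OC (LefPen.ciIdeal G) (c : ℤ), V G i) :=
  pull (LefPen.ciIdeal G).subschemeι _ (LefPen.chart n k i) (chartFrame c i)

theorem isFrame_cfr (c : ℕ) (i : Fin (n + 1)) :
    IsFrame (Groth.L21.PlaneCurve.OC (LefPen.ciIdeal G) (c : ℤ)) (V G i) (cfr G c i) :=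
  (isFrame_chartFrame c i).pullback _ _

theorem cfr_eq (c : ℕ) (a b : Fin (n + 1)) :
    rs (Groth.L21.PlaneCurve.OC (LefPen.ciIdeal G) (c : ℤ)) (inf_le_left : V G a ⊓ V G b ≤ V G a) (cfr G c a) =
      ro (inf_le_right : V G a ⊓ V G b ≤ V G b) (ρ G b (X a ^ c)) •
        rs (Groth.L21.PlaneCurve.OC (LefPen.ciIdeal G) (c : ℤ)) inf_le_right (cfr G c b) := by
  have h := congrArg (pull (LefPen.ciIdeal G).subschemeι _ (LefPen.chart n k a ⊓ LefPen.chart n k b))
    (chartFrame_eq (k := k) (c := c) a b)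
  rw [Groth.L18.Frame.pull_smul, ← Groth.L18.Frame.pull_rs, ← Groth.L18.Frame.pull_rs,
    Groth.L20.PicThick.app_ro] at h
  exact h

theorem exists_mem_V (y : (LefPen.ciIdeal G).subscheme) : ∃ i, y ∈ V G i :=
  Groth.L21.PlaneCurve.exists_mem_chart _

/-- The point of a chart attached to a point with coordinates in the ground field. -/
def pt (i : Fin (n + 1)) {x : Fin (n + 1) → k} (hx : x i = 1) (hz : ∀ j, eval x (G j).1 = 0) :
    (LefPen.ciIdeal G).subscheme :=
  (isAffineOpen_V G i).fromSpec ⟨RingHom.ker (ev G i hx hz), RingHom.ker_isPrime _⟩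

theorem pt_mem (i : Fin (n + 1)) {x : Fin (n + 1) → k} (hx : x i = 1) (hz : ∀ j, eval x (G j).1 = 0) :
    pt G i hx hz ∈ V G i :=
  (isAffineOpen_V G i).range_fromSpec.le ⟨_, rfl⟩

theorem pt_mem_basicOpen_iff (i : Fin (n + 1)) {x : Fin (n + 1) → k} (hx : x i = 1)
    (hz : ∀ j, eval x (G j).1 = 0) (f : Γ((LefPen.ciIdeal G).subscheme, V G i)) :
    pt G i hx hz ∈ (LefPen.ciIdeal G).subscheme.basicOpen f ↔ ev G i hx hz f ≠ 0 := by
  show (_ : PrimeSpectrum Γ((LefPen.ciIdeal G).subscheme, V G i)) ∈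
    (isAffineOpen_V G i).fromSpec ⁻¹ᵁ (LefPen.ciIdeal G).subscheme.basicOpen f ↔ _
  rw [(isAffineOpen_V G i).fromSpec_preimage_basicOpen f]
  exact Iff.rfl

/-- The complete intersection. -/
abbrev CI : Scheme.{u} := (LefPen.ciIdeal G).subscheme

section FunctionField

variable [IsIntegral (CI G)]


theorem generic_mem {U : (CI G).Opens} {y : (CI G)} (hy : y ∈ U) : genericPoint (CI G) ∈ U :=
  ((genericPoint_spec (CI G)).mem_open_set_iff U.isOpen).2 ⟨y, trivial, hy⟩

/-- The generic germ. -/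
def gm (U : (CI G).Opens) (h : genericPoint (CI G) ∈ U) : Γ((CI G), U) →+* (CI G).functionField :=
  ((CI G).presheaf.germ U (genericPoint (CI G)) h).hom

theorem gm_injective (U : (CI G).Opens) (h : genericPoint (CI G) ∈ U) : Function.Injective (gm G U h) :=
  germ_injective_of_isIntegral _ _ h

theorem gm_ro {U U' : (CI G).Opens} (h : U' ≤ U) (h' : genericPoint (CI G) ∈ U') (z : Γ((CI G), U)) :
    gm G U' h' (ro h z) = gm G U (h h') z :=
  TopCat.Presheaf.germ_res_apply _ _ _ _ _

theorem eq_of_gm {U : (CI G).Opens} {z z' : Γ((CI G), U)} (h : ∀ h' : genericPoint (CI G) ∈ U, gm G U h' z = gm G U h' z') :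
    z = z' := by
  by_cases hU : genericPoint (CI G) ∈ U
  · exact gm_injective G U hU (h hU)
  · refine Groth.L21.Extend.eq_of_locally (Coh.structureModule (CI G)) z z' fun y hy => ?_
    exact (hU (generic_mem G (show y ∈ U from hy))).elim

variable (o : Fin (n + 1)) (ho : genericPoint (CI G) ∈ V G o)

/-- The homogeneous coordinates in the function field. -/
def π : Rk →+* (CI G).functionField := (gm G (V G o) ho).comp (ρ G o)

theorem π_X_self : π G o ho (X o) = 1 := by
  rw [π, RingHom.comp_apply, ρ_X_self, map_one]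

theorem π_rel {e : ℕ} {f : Rk} (hf : f.IsHomogeneous e) {a : Fin (n + 1)} (ha : genericPoint (CI G) ∈ V G a) :
    gm G (V G a) ha (ρ G a f) * π G o ho (X a) ^ e = π G o ho f := by
  have h := congrArg (gm G (V G a ⊓ V G o) ⟨ha, ho⟩) (ρ_rel G hf a o)
  rw [map_mul, gm_ro, gm_ro, gm_ro] at h
  rw [← map_pow]
  exact h

theorem π_X_ne_zero {a : Fin (n + 1)} (ha : genericPoint (CI G) ∈ V G a) : π G o ho (X a) ≠ 0 := fun h0 => by
  have h := π_rel G o ho (isHomogeneous_X k o) ha
  rw [h0, π_X_self, pow_one, mul_zero] at h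
  exact zero_ne_one h

theorem π_of_mem_span {f : Rk} (hf : f ∈ Cone.idl (pols G)) : π G o ho f = 0 := by
  rw [π, RingHom.comp_apply, ρ_mem_span G o hf, map_zero]

/-- A form vanishing at the generic point is killed by a power of each variable modulo the relations. -/
theorem exists_pow_mul_mem {e : ℕ} {f : Rk} (hf : f.IsHomogeneous e) (h0 : π G o ho f = 0) (i : Fin (n + 1)) :
    ∃ M : ℕ, X i ^ M * f ∈ Cone.idl (pols G) := by
  have hρ : ρ G i f = 0 := eq_of_gm G fun h' => by
    have h := π_rel G o ho hf h'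
    rw [h0, mul_eq_zero] at h
    rw [map_zero]
    exact h.resolve_right (pow_ne_zero _ (π_X_ne_zero G o ho h'))
  obtain ⟨y, hy, hd⟩ := exists_of_ρ_eq_zero G i hρ
  let L := Localization.Away (X i : Rk)
  let v : Groth.L16.ProjSpace.AwayX n k i →+* L := algebraMap _ _
  let Θ : Rk →+* L := v.comp ((Groth.L16.ProjSpace.toAway n k i).comp (Groth.L16.ProjSpace.dehom n k i).toRingHom)
  have hF : ∀ {e : ℕ} {q : Rk}, q.IsHomogeneous e → Θ q * algebraMap Rk L (X i ^ e) = algebraMap Rk L q :=
    fun hq => Groth.L16.ProjSpace.toAway_dehom_mul n k i ((mem_homogeneousSubmodule _ _).2 hq)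
  have hle : (Cone.idl (pols G)).map Θ ≤ (Cone.idl (pols G)).map (algebraMap Rk L) := by
    simp only [Cone.idl, Ideal.map_span]
    rw [Ideal.span_le]
    rintro _ ⟨_, ⟨j, rfl⟩, rfl⟩
    have hu : IsUnit (algebraMap Rk L (X i ^ a j)) := by
      rw [map_pow]; exact (IsLocalization.Away.algebraMap_isUnit _).pow _
    obtain ⟨b, hb⟩ := hu.exists_left_inv
    have : Θ (pols G j) = b * algebraMap Rk L (pols G j) := by
      rw [← hF (q := pols G j) ((mem_homogeneousSubmodule _ _).1 (G j).2), mul_left_comm, hb, mul_one]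
    rw [this]
    exact Ideal.mul_mem_left _ _ (Ideal.subset_span ⟨_, ⟨j, rfl⟩, rfl⟩)
  have hf' : algebraMap Rk L f ∈ (Cone.idl (pols G)).map (algebraMap Rk L) := by
    rw [← hF hf]
    refine Ideal.mul_mem_right _ _ (hle ?_)
    have h1 : Θ (f - y) = 0 := by
      show v (Groth.L16.ProjSpace.toAway n k i (Groth.L16.ProjSpace.dehom n k i (f - y))) = 0
      rw [hd, map_zero, map_zero]
    rw [map_sub, sub_eq_zero] at h1
    rw [h1]
    exact Ideal.mem_map_of_mem Θ hy
  rw [IsLocalization.algebraMap_mem_map_algebraMap_iff (Submonoid.powers (X i : Rk))] at hf'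
  obtain ⟨_, ⟨M, rfl⟩, hM⟩ := hf'
  exact ⟨M, hM⟩

/-- Every rational function is a ratio of forms of one degree. -/
theorem exists_ratio (u : (CI G).functionField) :
    ∃ (e : ℕ) (A B : Rk), A.IsHomogeneous e ∧ B.IsHomogeneous e ∧ π G o ho B ≠ 0 ∧ u * π G o ho B = π G o ho A := by
  haveI : Nonempty (V G o) := ⟨⟨_, ho⟩⟩
  haveI := functionField_isFractionRing_of_isAffineOpen (CI G) (V G o) (isAffineOpen_V G o)
  obtain ⟨⟨s, t⟩, hst⟩ := IsLocalization.surj (nonZeroDivisors Γ((CI G), V G o)) u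
  obtain ⟨A₀, rfl⟩ := ρ_surjective G o s
  obtain ⟨B₀, hB₀⟩ := ρ_surjective G o t.1
  refine ⟨max A₀.totalDegree B₀.totalDegree, hgz o _ A₀, hgz o _ B₀, isHomogeneous_hgz _ _ _, isHomogeneous_hgz _ _ _,
    ?_, ?_⟩
  · rw [map_hgz (π G o ho) (π_X_self G o ho) (le_max_right _ _), π, RingHom.comp_apply, hB₀]
    exact (map_ne_zero_iff _ (gm_injective G _ ho)).2 (nonZeroDivisors.ne_zero t.2)
  · rw [map_hgz (π G o ho) (π_X_self G o ho) (le_max_right _ _),
      map_hgz (π G o ho) (π_X_self G o ho) (le_max_left _ _), π, RingHom.comp_apply, RingHom.comp_apply, hB₀]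
    exact hst

/-- A unit near a point is a ratio of forms of one degree not vanishing there. -/
theorem exists_ratio_at {i : Fin (n + 1)} {x : Fin (n + 1) → k} (hx : x i = 1) (hz : ∀ j, eval x (G j).1 = 0)
    {W : (CI G).Opens} (hy : pt G i hx hz ∈ W) (hW : W ≤ V G i) {z : Γ((CI G), W)} (hu : IsUnit z) :
    ∃ (e : ℕ) (A B : Rk), A.IsHomogeneous e ∧ B.IsHomogeneous e ∧ eval x A ≠ 0 ∧ eval x B ≠ 0 ∧
      gm G W (generic_mem G hy) z * π G o ho B = π G o ho A := by
  have hV := isAffineOpen_V G i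
  obtain ⟨h, hhW, hyh⟩ := hV.exists_basicOpen_le (⟨_, hy⟩ : W) (pt_mem G i hx hz)
  have hh : ev G i hx hz h ≠ 0 := (pt_mem_basicOpen_iff G i hx hz h).1 hyh
  haveI := hV.isLocalization_basicOpen h
  obtain ⟨⟨r, ⟨_, M, rfl⟩⟩, hr⟩ := IsLocalization.surj (Submonoid.powers h) (ro hhW z)
  replace hr : ro hhW z * ro (Scheme.basicOpen_le _ h) h ^ M = ro (Scheme.basicOpen_le _ h) r := by
    rw [← map_pow]; exact hr
  have hhu : IsUnit (ro (Scheme.basicOpen_le _ h) h) :=
    RingedSpace.isUnit_res_basicOpen (CI G).toLocallyRingedSpace.toRingedSpace h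
  have hru : IsUnit (ro (Scheme.basicOpen_le (CI G) h) r) := by
    rw [← hr]
    exact (hu.map ((CI G).presheaf.map (homOfLE hhW).op).hom).mul (hhu.pow M)
  have hyr : pt G i hx hz ∈ (CI G).basicOpen r := by
    have hle : (CI G).basicOpen h ≤ (CI G).basicOpen r := by
      have := (CI G).basicOpen_res r (homOfLE (Scheme.basicOpen_le (CI G) h)).op
      rw [(CI G).basicOpen_of_isUnit hru] at this
      exact this.le.trans inf_le_right
    exact hle hyh
  have hr0 : ev G i hx hz r ≠ 0 := (pt_mem_basicOpen_iff G i hx hz r).1 hyr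
  obtain ⟨A₀, rfl⟩ := ρ_surjective G i r
  obtain ⟨H, hH⟩ := ρ_surjective G i (h ^ M)
  let T := max A₀.totalDegree H.totalDegree
  have hev : ∀ {q : Rk}, q.totalDegree ≤ T → eval x (hgz i T q) = ev G i hx hz (ρ G i q) := fun hq => by
    rw [ev_ρ, map_hgz (eval x) (by rw [eval_X, hx]) hq]
  refine ⟨T, hgz i T A₀, hgz i T H, isHomogeneous_hgz _ _ _, isHomogeneous_hgz _ _ _, ?_, ?_, ?_⟩
  · rw [hev (le_max_left _ _)]; exact hr0
  · rw [hev (le_max_right _ _), hH, map_pow]; exact pow_ne_zero _ hh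
  · have hηh : genericPoint (CI G) ∈ (CI G).basicOpen h := generic_mem G hyh
    have hi : genericPoint (CI G) ∈ V G i := Scheme.basicOpen_le _ h hηh
    have h1 : ∀ {q : Rk}, q.totalDegree ≤ T →
        π G o ho (hgz i T q) = gm G (V G i) hi (ρ G i q) * π G o ho (X i) ^ T := fun hq => by
      rw [← π_rel G o ho (isHomogeneous_hgz i T _) hi, map_hgz (ρ G i) (ρ_X_self G i) hq]
    have h2 := congrArg (gm G ((CI G).basicOpen h) hηh) hr
    rw [map_mul, map_pow, gm_ro, gm_ro, gm_ro] at h2
    rw [h1 (le_max_left _ _), h1 (le_max_right _ _), hH, map_pow, ← mul_assoc, ← h2]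

variable {G}

/-- The coordinates in the function field, as a homomorphism from the cone. -/
theorem prime_idl [IsAlgClosed k]
    (ht : ∃ u : Rk, u.IsHomogeneous 1 ∧ ∀ M : ℕ, 1 ≤ M → ∀ y, u ^ M * y ∈ Cone.idl (pols G) →
      y ∈ Cone.idl (pols G)) :
    (Cone.idl (pols G)).IsPrime := by
  classical
  obtain ⟨o, ho⟩ := exists_mem_V G (genericPoint (CI G))
  obtain ⟨u, hu, hreg⟩ := ht
  have hmem : ∀ {e : ℕ} {f : Rk}, f.IsHomogeneous e → π G o ho f = 0 → f ∈ Cone.idl (pols G) := by
    intro e f hf h0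
    let J : Ideal Rk := Submodule.comap (LinearMap.mulRight Rk f) (Cone.idl (pols G))
    obtain ⟨M, hM, hmem⟩ := Cone.exists_pow_mem J (fun x hx => by
      obtain ⟨i, hi⟩ := Function.ne_iff.1 hx
      obtain ⟨M, hM⟩ := exists_pow_mul_mem G o ho hf h0 i
      exact ⟨X i ^ M, hM, by rw [map_pow, eval_X]; exact pow_ne_zero M hi⟩) hu
    exact hreg M hM f hmem
  let ψ : Rk →+* Polynomial ((CI G).functionField) :=
    eval₂Hom (Polynomial.C.comp ((π G o ho).comp C)) fun b => Polynomial.C (π G o ho (X b)) * Polynomial.X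
  have hψ : ∀ {e : ℕ} {f : Rk}, f.IsHomogeneous e → ψ f = Polynomial.C (π G o ho f) * Polynomial.X ^ e := by
    intro e f hf
    conv_lhs => rw [MvPolynomial.as_sum f, map_sum]
    conv_rhs => rw [MvPolynomial.as_sum f, map_sum, map_sum, Finset.sum_mul]
    refine Finset.sum_congr rfl fun s hs => ?_
    have hdeg : ∑ i ∈ s.support, s i = e := by
      have := hf (MvPolynomial.mem_support_iff.1 hs)
      rw [Finsupp.weight_apply] at this
      simpa [Finsupp.sum] using this
    rw [show π G o ho (monomial s (coeff s f)) =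
        π G o ho (C (coeff s f)) * s.prod fun b m => π G o ho (X b) ^ m by
      rw [monomial_eq, map_mul, map_finsuppProd]
      simp only [map_pow]]
    rw [eval₂Hom_monomial, map_mul, Finsupp.prod, Finsupp.prod, ← hdeg, ← Finset.prod_pow_eq_pow_sum]
    simp only [RingHom.comp_apply, mul_pow, Finset.prod_mul_distrib, map_prod, map_pow]
    ring
  suffices h : Cone.idl (pols G) = RingHom.ker ψ by rw [h]; exact RingHom.ker_isPrime ψ
  refine le_antisymm (Ideal.span_le.2 (Set.range_subset_iff.2 fun j => ?_)) fun f hf => ?_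
  · show ψ (pols G j) = 0
    rw [hψ (e := a j) ((mem_homogeneousSubmodule _ _).1 (G j).2),
      π_of_mem_span G o ho (Ideal.subset_span ⟨j, rfl⟩), map_zero, zero_mul]
  · rw [← sum_homogeneousComponent f]
    refine Ideal.sum_mem _ fun t ht => hmem (homogeneousComponent_isHomogeneous t f) ?_
    have hf' := congrArg (fun q => Polynomial.coeff q t) (RingHom.mem_ker.1 hf)
    simp only [Polynomial.coeff_zero] at hf'
    rw [← sum_homogeneousComponent f, map_sum, Polynomial.finsetSum_coeff] at hf'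
    rw [Finset.sum_eq_single_of_mem t ht] at hf'
    · rwa [hψ (homogeneousComponent_isHomogeneous t f), Polynomial.coeff_C_mul, Polynomial.coeff_X_pow,
        if_pos rfl, mul_one] at hf'
    · intro b _ hb
      rw [hψ (homogeneousComponent_isHomogeneous b f), Polynomial.coeff_C_mul, Polynomial.coeff_X_pow,
        if_neg (Ne.symm hb), mul_zero]

end FunctionField

end Groth.L13.CIPic.Chart

namespace Groth.L13.CIPic

open Groth.L18.CIProj (pols)

variable {k : Type u} [Field k] [IsAlgClosed k] {d : ℕ} {a : Fin d → ℕ}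
  (ha : ∀ j, 1 ≤ a j) (G : ∀ j, LefPen.Form (2 + d) k (a j))
  [SmoothOfRelativeDimension 2 ((LefPen.ciIdeal G).subschemeι ≫ CohB1.ProjSpace.toSpec (2 + d) k)]

include ha in
theorem isIntegral_ci : IsIntegral (LefPen.ciIdeal G).subscheme := by
  let I := LefPen.ciIdeal G
  let f := I.subschemeι ≫ CohB1.ProjSpace.toSpec (2 + d) k
  haveI := nonempty_ci ha G
  letI : I.subscheme.Over (Spec (CommRingCat.of k)) := ⟨f⟩
  haveI : SmoothOfRelativeDimension 2 (I.subscheme ↘ Spec (CommRingCat.of k)) :=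
    ‹SmoothOfRelativeDimension 2 (I.subschemeι ≫ CohB1.ProjSpace.toSpec (2 + d) k)›
  haveI := Groth.L16.ProjSpace.isProper_toSpec (2 + d) k
  haveI : Smooth f := SmoothOfRelativeDimension.smooth 2 _
  haveI : GeometricallyConnected f := by
    refine Groth.L18.CIProj.geometricallyConnected (by omega) ha G ?_ (by omega)
    rw [Groth.L22.Adjunction.topologicalKrullDim_eq_relDim k 2]
    exact_mod_cast (show 2 = 2 + d - d by omega)
  exact Groth.L22.CurveQuot.isIntegral_of_smooth f

include ha in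
/-- The equations of a smooth complete intersection surface satisfy the standing hypotheses. -/
theorem good : Cone.Good (pols G) a := by
  haveI := isIntegral_ci ha G
  have hhom : ∀ j, (pols G j).IsHomogeneous (a j) := fun j => (mem_homogeneousSubmodule _ _).1 (G j).2
  obtain ⟨u, v, w, hu, hv, hw, h⟩ := exists_regular_triple hhom ha (show d + 2 ≤ 2 + d by omega) (isCI ha G)
  refine ⟨hhom, ha, Chart.prime_idl ⟨u, hu, fun M hM y hy => (h M 1 1 hM le_rfl le_rfl).1 y hy⟩,
    fun x hx hz => ?_, u, v, w, hu, hv, hw, h⟩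
  obtain ⟨i, hi⟩ := Function.ne_iff.1 hx
  let x' : Fin (2 + d + 1) → k := fun b => (x i)⁻¹ * x b
  have hzx : ∀ j, eval x' (G j).1 = 0 := fun j => by
    rw [Chart.eval_smul_of_isHomogeneous (hhom j), hz j, mul_zero]
  obtain ⟨f, hf⟩ := Chart.exists_minor G rfl i (show x' i = 1 from inv_mul_cancel₀ hi) hzx
  refine ⟨f, fun h0 => hf ?_⟩
  rw [RingHom.map_det] at h0 ⊢
  have hA : ((eval x').mapMatrix (Matrix.of fun (l j : Fin d) => pderiv (f l) (pols G j))) =
      Matrix.of fun (l j : Fin d) => (x i)⁻¹ ^ (a j - 1) *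
        ((eval x).mapMatrix (Matrix.of fun (l j : Fin d) => pderiv (f l) (pols G j))) l j := by
    ext l j
    exact Chart.eval_smul_of_isHomogeneous (hhom j).pderiv _ _
  rw [hA, Matrix.det_mul_row, h0, mul_zero]

end Groth.L13.CIPic
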