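import Mathlib.RingTheory.Kaehler.Basic
import Mathlib.RingTheory.Etale.Kaehler
import Mathlib.RingTheory.MvPolynomial.EulerIdentity
import Mathlib.RingTheory.Derivation.MapCoeffs
import Mathlib.Algebra.MvPolynomial.PDeriv
import Mathlib.Algebra.MvPolynomial.Derivation
import Mathlib.LinearAlgebra.Matrix.Adjugate

/-!
# Differentials of the quotient of a polynomial ring
-/

set_option autoImplicit false
set_option linter.style.haveILetI false
set_option backward.isDefEq.respectTransparency false
universe u

open MvPolynomial

noncomputable section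

namespace Groth.L13.CIPic.Cone

/-- Linear equations times a maximal minor. -/
theorem det_smul_mem {A : Type*} [CommRing A] {m d : ℕ} (M : Fin m → Fin d → A) (f : Fin d → Fin m)
    (t : Fin d → A) {J : Ideal A} (h : ∀ b, ∑ j, M b j * t j ∈ J) (j : Fin d) :
    (Matrix.of fun (i' j' : Fin d) => M (f i') j' : Matrix (Fin d) (Fin d) A).det * t j ∈ J := by
  let Q : Matrix (Fin d) (Fin d) A := Matrix.of fun i j => M (f i) j
  have h1 : (Q.adjugate * Q).mulVec t = Q.det • t := by
    rw [Matrix.adjugate_mul, Matrix.smul_mulVec, Matrix.one_mulVec]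
  have h2 := congrFun h1 j
  rw [← Matrix.mulVec_mulVec] at h2
  show Q.det * t j ∈ J
  rw [show Q.det * t j = (Q.det • t) j from rfl, ← h2]
  show ∑ i, Q.adjugate j i * Q.mulVec t i ∈ J
  refine Ideal.sum_mem J fun i _ => Ideal.mul_mem_left J _ ?_
  exact h (f i)

variable {k : Type u} [Field k] {N d : ℕ} (g : Fin d → MvPolynomial (Fin (N + 1)) k)

local notation "Rk" => MvPolynomial (Fin (N + 1)) k

/-- The ideal. -/
abbrev idl : Ideal Rk := Ideal.span (Set.range g)

/-- The quotient. -/
abbrev CR : Type u := Rk ⧸ idl g

/-- The Jacobian matrix. -/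
def jac (b : Fin (N + 1)) (j : Fin d) : CR g := Ideal.Quotient.mk (idl g) (pderiv b (g j))

/-- The map given by the Jacobian matrix. -/
def jacMap : (Fin d → CR g) →ₗ[CR g] (Fin (N + 1) → CR g) :=
  LinearMap.pi fun b => ∑ j, jac g b j • LinearMap.proj j

theorem jacMap_apply (t : Fin d → CR g) (b : Fin (N + 1)) : jacMap g t b = ∑ j, jac g b j * t j := by
  simp [jacMap]

/-- Forms written in the coordinate differentials. -/
def coordMap : (Fin (N + 1) → CR g) →ₗ[CR g] Ω[CR g⁄k] :=
  Fintype.linearCombination (CR g)
    (fun b => KaehlerDifferential.D k (CR g) (Ideal.Quotient.mk (idl g) (X b)))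

theorem coordMap_apply (c : Fin (N + 1) → CR g) :
    coordMap g c = ∑ b, c b • KaehlerDifferential.D k (CR g) (Ideal.Quotient.mk (idl g) (X b)) := rfl

/-- The gradient, as a derivation with values in the cokernel of the Jacobian. -/
def gradDer : Derivation k Rk ((Fin (N + 1) → CR g) ⧸ LinearMap.range (jacMap g)) :=
  MvPolynomial.mkDerivation k fun b => Submodule.Quotient.mk (Pi.single b 1)

theorem gradDer_apply (f : Rk) :
    gradDer g f = Submodule.Quotient.mk (fun b => Ideal.Quotient.mk (idl g) (pderiv b f)) := by
  induction f using MvPolynomial.induction_on with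
  | C a =>
    rw [← MvPolynomial.algebraMap_eq, Derivation.map_algebraMap]
    simp [Pi.zero_def]
    rfl
  | add p q hp hq =>
    rw [map_add, hp, hq, ← Submodule.Quotient.mk_add]
    congr 1
    ext b
    simp
  | mul_X p i hp =>
    rw [Derivation.leibniz, hp, gradDer, mkDerivation_X]
    rw [← IsScalarTower.algebraMap_smul (CR g) p, ← IsScalarTower.algebraMap_smul (CR g) (X i : Rk),
      ← Submodule.Quotient.mk_smul, ← Submodule.Quotient.mk_smul, ← Submodule.Quotient.mk_add]
    congr 1
    ext b
    simp only [Pi.add_apply, Pi.smul_apply, smul_eq_mul, pderiv_mul, map_add, map_mul, pderiv_X,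
      Ideal.Quotient.algebraMap_eq]
    rcases eq_or_ne b i with rfl | hbi
    · simp [mul_comm]; ring
    · simp [hbi, hbi.symm, mul_comm]

theorem gradDer_eq_zero {f : Rk} (hf : f ∈ idl g) : gradDer g f = 0 := by
  induction hf using Submodule.span_induction with
  | mem x hx =>
    obtain ⟨j, rfl⟩ := hx
    rw [gradDer_apply, Submodule.Quotient.mk_eq_zero]
    exact ⟨Pi.single j 1, funext fun b => by simp [jacMap_apply, jac, Pi.single_apply]⟩
  | zero => exact map_zero _
  | add x y _ _ hx hy => rw [map_add, hx, hy, add_zero]
  | smul c x hx' hx =>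
    have hx0 : algebraMap Rk (CR g) x = 0 := Ideal.Quotient.eq_zero_iff_mem.2 hx'
    rw [smul_eq_mul, Derivation.leibniz, hx, smul_zero, zero_add, ← IsScalarTower.algebraMap_smul (CR g) x,
      hx0]
    exact zero_smul (CR g) (gradDer g c)

/-- The gradient on the quotient. -/
def gradQ : Derivation k (CR g) ((Fin (N + 1) → CR g) ⧸ LinearMap.range (jacMap g)) :=
  Derivation.mk'
    { toFun := fun x => Quotient.liftOn' x (gradDer g) fun p q h => by
        rw [← sub_eq_zero, ← map_sub]
        exact gradDer_eq_zero g ((Submodule.quotientRel_def _).1 h)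
      map_add' := fun x y => by
        obtain ⟨p, rfl⟩ := Ideal.Quotient.mk_surjective x
        obtain ⟨q, rfl⟩ := Ideal.Quotient.mk_surjective y
        exact map_add (gradDer g) p q
      map_smul' := fun c x => by
        obtain ⟨p, rfl⟩ := Ideal.Quotient.mk_surjective x
        exact (gradDer g).map_smul c p }
    fun x y => by
      obtain ⟨p, rfl⟩ := Ideal.Quotient.mk_surjective x
      obtain ⟨q, rfl⟩ := Ideal.Quotient.mk_surjective y
      show gradDer g (p * q) = _
      rw [Derivation.leibniz, ← IsScalarTower.algebraMap_smul (CR g) p, ← IsScalarTower.algebraMap_smul (CR g) q]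
      rfl

theorem gradQ_mk (f : Rk) : gradQ g (Ideal.Quotient.mk (idl g) f) = gradDer g f := rfl

theorem mem_range_of_coordMap_eq_zero {c : Fin (N + 1) → CR g} (h : coordMap g c = 0) :
    c ∈ LinearMap.range (jacMap g) := by
  have h' := congrArg (gradQ g).liftKaehlerDifferential h
  rw [map_zero, coordMap_apply, map_sum] at h'
  simp only [map_smul, Derivation.liftKaehlerDifferential_comp_D, gradQ_mk, gradDer, mkDerivation_X,
    ← Submodule.Quotient.mk_smul] at h'
  have h'' : (LinearMap.range (jacMap g)).mkQ (∑ b, c b • Pi.single b (1 : CR g)) = 0 := by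
    rw [map_sum]
    exact h'
  rw [Submodule.mkQ_apply, Submodule.Quotient.mk_eq_zero] at h''
  convert h'' using 1
  ext b
  simp [Finset.sum_apply, Pi.single_apply]

theorem coordMap_jacMap (t : Fin d → CR g) : coordMap g (jacMap g t) = 0 := by
  have hD : ∀ f : Rk, KaehlerDifferential.D k (CR g) (Ideal.Quotient.mk (idl g) f) =
      coordMap g (fun b => Ideal.Quotient.mk (idl g) (pderiv b f)) := by
    intro f
    induction f using MvPolynomial.induction_on with
    | C a =>
      rw [show Ideal.Quotient.mk (idl g) (C a) = algebraMap k (CR g) a from rfl, Derivation.map_algebraMap,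
        ← map_zero (coordMap g)]
      exact congrArg (coordMap g) (funext fun b => by simp)
    | add p q hp hq =>
      rw [map_add, map_add, hp, hq, ← map_add]
      exact congrArg (coordMap g) (funext fun b => by simp)
    | mul_X p i hp =>
      have e : KaehlerDifferential.D k (CR g) (Ideal.Quotient.mk (idl g) (X i)) =
          coordMap g (Pi.single i 1) := by
        simp [coordMap, Fintype.linearCombination_apply_single]
      rw [map_mul, Derivation.leibniz, hp, e, ← LinearMap.map_smul, ← LinearMap.map_smul, ← map_add]
      refine congrArg (coordMap g) (funext fun b => ?_)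
      rcases eq_or_ne b i with rfl | hbi
      · simp [pderiv_X, mul_comm, add_comm]
      · simp [pderiv_X, hbi, hbi.symm, mul_comm]
  have hg : ∀ j, coordMap g (fun b => jac g b j) = 0 := fun j => by
    have := hD (g j)
    have h0 : Ideal.Quotient.mk (idl g) (g j) = 0 :=
      Ideal.Quotient.eq_zero_iff_mem.2 (Ideal.subset_span ⟨j, rfl⟩)
    rw [h0, map_zero] at this
    exact this.symm
  have e : jacMap g t = ∑ j, t j • fun b => jac g b j := funext fun b => by
    simp [jacMap_apply, Finset.sum_apply, mul_comm]
  rw [e, map_sum]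
  exact Finset.sum_eq_zero fun j _ => by rw [map_smul, hg, smul_zero]

theorem coordMap_surjective : Function.Surjective (coordMap g) := by
  rw [← LinearMap.range_eq_top, eq_top_iff, ← KaehlerDifferential.span_range_derivation, Submodule.span_le]
  rintro _ ⟨x, rfl⟩
  obtain ⟨f, rfl⟩ := Ideal.Quotient.mk_surjective x
  induction f using MvPolynomial.induction_on with
  | C a =>
    rw [show Ideal.Quotient.mk (idl g) (C a) = algebraMap k (CR g) a from rfl, Derivation.map_algebraMap]
    exact Submodule.zero_mem _
  | add p q hp hq => rw [map_add, map_add]; exact Submodule.add_mem _ hp hq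
  | mul_X p i hp =>
    rw [map_mul, Derivation.leibniz]
    exact Submodule.add_mem _
      (Submodule.smul_mem _ _ ⟨Pi.single i 1, by simp [coordMap, Fintype.linearCombination_apply_single]⟩)
      (Submodule.smul_mem _ _ hp)

end Groth.L13.CIPic.Cone
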