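import Groth.Agent.L18.PicLefLevels
import Groth.Agent.L18.PicLefColim

/-!
# Roots of line bundles lift along thickenings in degrees prime to the characteristic
-/

set_option autoImplicit false
set_option linter.style.haveILetI false
set_option linter.unusedSectionVars false
set_option backward.isDefEq.respectTransparency false
set_option backward.isDefEq.respectTransparency.types false
universe u

open CategoryTheory CategoryTheory.Limits AlgebraicGeometry TopologicalSpace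

noncomputable section

namespace Groth.L13.CIPic

attribute [local instance] Groth.Agent.AV.InterPic.picLaw Groth.L08.Cube.clMonoid

open Groth.Agent.AV.InterPic (pullPic pullMul)
open Groth.L18.PicLefLevels (incl sqZero_incl)

/-- Roots lift along square-zero ideals. -/
theorem exists_root_subscheme {X : Scheme.{u}} (J : X.IdealSheafData) (hJ : J * J = ⊥) {q : ℕ}
    (hq : IsUnit (q : Γ(X, ⊤))) (t : PicLoc.PicSet X) (c : PicLoc.PicSet J.subscheme)
    (h : c ^ q = pullPic J.subschemeι t) : ∃ d, pullPic J.subschemeι d = c ∧ d ^ q = t := by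
  obtain ⟨-, -, α, δ₁, -, -, -, -, hk, hr⟩ :=
    Groth.L02.PicH1.exists_units_sequence J hJ (pullMul J.subschemeι)
  have hq' : IsUnit (q : Coh.Γtop X) := hq
  obtain ⟨r, hqr⟩ := hq'.exists_right_inv
  have key : ∀ (n : ℕ) (z : Coh.HH X (ClSub.idealMod J) n), q • (r • z) = z := fun n z => by
    rw [← Nat.cast_smul_eq_nsmul (Coh.Γtop X) q (r • z), smul_smul, hqr, one_smul]
  have hδ : δ₁ c ^ q = 1 := by
    rw [← map_pow, h, ← MonoidHom.mem_ker, hr]
    exact ⟨t, rfl⟩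
  have hc : c ∈ δ₁.ker := by
    refine MonoidHom.mem_ker.2 (Multiplicative.toAdd.injective ?_)
    have h2 : q • (δ₁ c).toAdd = 0 := congrArg Multiplicative.toAdd hδ
    rw [toAdd_one, ← key 2 (δ₁ c).toAdd, ← smul_comm, h2, smul_zero]
  rw [hr] at hc
  obtain ⟨d, hd⟩ := hc
  have hd' : d ^ q / t ∈ (pullPic J.subschemeι).ker := by
    rw [MonoidHom.mem_ker, map_div, map_pow, show pullPic J.subschemeι d = c from hd, h, div_self']
  obtain ⟨a, ha⟩ := hk.le hd'
  let b := Multiplicative.ofAdd (r • a.toAdd)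
  have hb : b ^ q = a := Multiplicative.toAdd.injective (by rw [toAdd_pow]; exact key 1 _)
  have hαb : pullPic J.subschemeι (α b) = 1 := MonoidHom.mem_ker.1 (hk.ge ⟨b, rfl⟩)
  refine ⟨d / α b, ?_, ?_⟩
  · rw [map_div, hαb, div_one]
    exact hd
  · rw [div_pow, ← map_pow, hb, ha, div_div_cancel]

theorem pullPic_comp {X Y Z : Scheme.{u}} (f : X ⟶ Y) (g : Y ⟶ Z) (a : PicLoc.PicSet Z) :
    pullPic f (pullPic g a) = pullPic (f ≫ g) a :=
  Subtype.ext (PicLoc.pullCl_comp f g a.1).symm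

theorem pullPic_congr {X Y : Scheme.{u}} {f g : X ⟶ Y} (h : f = g) (a : PicLoc.PicSet Y) :
    pullPic f a = pullPic g a := by rw [h]

theorem pullPic_id {X : Scheme.{u}} (a : PicLoc.PicSet X) : pullPic (𝟙 X) a = a :=
  Subtype.ext (PicLoc.pullCl_id a.1)

theorem pullPic_bijective {X Y : Scheme.{u}} (f : X ⟶ Y) [IsIso f] : Function.Bijective (pullPic f) :=
  Function.bijective_iff_has_inverse.2 ⟨pullPic (inv f),
    fun a => by rw [pullPic_comp, pullPic_congr (IsIso.inv_hom_id f), pullPic_id],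
    fun a => by rw [pullPic_comp, pullPic_congr (IsIso.hom_inv_id f), pullPic_id]⟩

/-- Roots lift along square-zero closed immersions. -/
theorem exists_root_immersion {Z Z' : Scheme.{u}} (t : Z ⟶ Z') [IsClosedImmersion t]
    (ht : Groth.L12.LineLift.SqZero t) {q : ℕ} (hq : IsUnit (q : Γ(Z', ⊤))) (τ : PicLoc.PicSet Z')
    (c : PicLoc.PicSet Z) (h : c ^ q = pullPic t τ) : ∃ d, pullPic t d = c ∧ d ^ q = τ := by
  let J := t.ker
  have hJ : J * J = ⊥ := by
    refine Scheme.IdealSheafData.ext (funext fun U => ?_)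
    show J.ideal U * J.ideal U = ⊥
    refine eq_bot_iff.2 (Ideal.mul_le.2 fun a ha b hb => ?_)
    rw [Scheme.Hom.ker_apply] at ha hb
    exact Ideal.mem_bot.2 (ht U.1 a b (RingHom.mem_ker.1 ha) (RingHom.mem_ker.1 hb))
  have hk : t.ker = J.subschemeι.ker := (Scheme.IdealSheafData.ker_subschemeι _).symm
  let l := IsClosedImmersion.lift J.subschemeι t (le_of_eq hk.symm)
  have hl : l ≫ J.subschemeι = t := IsClosedImmersion.lift_fac _ _ _
  haveI : IsIso l := IsClosedImmersion.isIso_lift _ _ hk.symm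
  obtain ⟨c', rfl⟩ := (pullPic_bijective l).2 c
  obtain ⟨d, hd, hd'⟩ := exists_root_subscheme J hJ hq τ c' ((pullPic_bijective l).1 (by
    rw [map_pow, h, pullPic_comp, hl]))
  exact ⟨d, by rw [← hd, pullPic_comp, hl], hd'⟩

variable {X : Scheme.{u}} (𝓘 : X.IdealSheafData)

theorem exists_root_level (m : ℕ) {q : ℕ} (hq : IsUnit (q : Γ(X, ⊤))) (τ : PicLoc.PicSet X)
    (c : PicLoc.PicSet (𝓘 ^ (m + 1)).subscheme) (h : c ^ q = pullPic (𝓘 ^ (m + 1)).subschemeι τ) :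
    ∃ d : PicLoc.PicSet (𝓘 ^ (m + 1 + 1)).subscheme, pullPic (incl 𝓘 (Nat.le_succ (m + 1))) d = c ∧
      d ^ q = pullPic (𝓘 ^ (m + 1 + 1)).subschemeι τ := by
  let t := incl 𝓘 (Nat.le_succ (m + 1))
  let P := (𝓘 ^ (m + 1 + 1)).subschemeι
  have hfac : t ≫ P = (𝓘 ^ (m + 1)).subschemeι := Scheme.IdealSheafData.inclusion_subschemeι _
  haveI : IsClosedImmersion (t ≫ P) := by rw [hfac]; infer_instance
  haveI : IsClosedImmersion t := IsClosedImmersion.of_comp t P
  refine exists_root_immersion t (sqZero_incl 𝓘 m) ?_ _ c (by rw [h, pullPic_comp, hfac])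
  have := hq.map P.appTop.hom
  rwa [map_natCast] at this

/-- A root of a line bundle extends to the completion when its degree is invertible. -/
theorem exists_root_system {q : ℕ} (hq : IsUnit (q : Γ(X, ⊤))) {T : X.Modules} (hT : PicF.IsInvertible T)
    {L : (𝓘 ^ (0 + 1)).subscheme.Modules} (hL : PicF.IsInvertible L)
    (σ : CohB1.tensorPow L q ≅ (Scheme.Modules.pullback (𝓘 ^ (0 + 1)).subschemeι).obj T) :
    ∃ 𝔐 : FSch.ModSys (FSch.completionAlong X 𝓘), (∀ m, PicF.IsInvertible (𝔐.F m)) ∧ Nonempty (𝔐.F 0 ≅ L) := by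
  let τ : PicLoc.PicSet X := ⟨PicF.cl T, T, rfl, hT⟩
  let Ty := fun m : ℕ => {c : PicLoc.PicSet (𝓘 ^ (m + 1)).subscheme // c ^ q = pullPic (𝓘 ^ (m + 1)).subschemeι τ}
  let c₀ : PicLoc.PicSet (𝓘 ^ (0 + 1)).subscheme := ⟨PicF.cl L, L, rfl, hL⟩
  have h0 : c₀ ^ q = pullPic (𝓘 ^ (0 + 1)).subschemeι τ := by
    have hv : ∀ (n : ℕ), (c₀ ^ n).1 = PicF.cl (CohB1.tensorPow L n) := fun n => by
      induction n with
      | zero => rfl
      | succ n ih => rw [pow_succ c₀ n]; show (c₀ ^ n).1 * c₀.1 = _; rw [ih]; rfl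
    exact Subtype.ext ((hv q).trans ((PicGrp.cl_eq_cl_iff _ _).2 ⟨σ⟩))
  have step : ∀ (m : ℕ) (c : Ty m), ∃ d : Ty (m + 1), pullPic (incl 𝓘 (Nat.le_succ (m + 1))) d.1 = c.1 :=
    fun m c => by
      obtain ⟨d, hd, hd'⟩ := exists_root_level 𝓘 m hq τ c.1 c.2
      exact ⟨⟨d, hd'⟩, hd⟩
  choose nx hnx using step
  let M : ∀ m, Ty m := fun m => Nat.rec (motive := Ty) ⟨c₀, h0⟩ nx m
  choose F hF hFi using fun m => (M m).1.2
  have hε : ∀ m, Nonempty ((Scheme.Modules.pullback (incl 𝓘 (Nat.le_succ (m + 1)))).obj (F (m + 1)) ≅ F m) :=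
    fun m => by
      refine (PicGrp.cl_eq_cl_iff _ _).1 ?_
      have h1 := congrArg Subtype.val (hnx m (M m))
      rw [Groth.Agent.AV.InterPic.pullPic_val] at h1
      exact (congrArg (PicF.pullCl _) (hF (m + 1))).trans (h1.trans (hF m).symm)
  exact ⟨⟨F, fun m => (hε m).some⟩, hFi, (PicGrp.cl_eq_cl_iff _ _).1 (hF 0)⟩

/-- A system of line bundles comes from a line bundle near the closed subscheme. -/
theorem exists_extension_of_system (h1 : LefX.LeffCond X 𝓘) (𝔐 : FSch.ModSys (FSch.completionAlong X 𝓘))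
    (h𝔐 : ∀ m, PicF.IsInvertible (𝔐.F m)) {n : ℕ} {N : (𝓘 ^ (n + 1)).subscheme.Modules} (eN : 𝔐.F n ≅ N)
    (hN : PicF.IsInvertible N) :
    ∃ (V : X.Opens) (L : (V : Scheme.{u}).Modules) (g : (𝓘 ^ (n + 1)).subscheme ⟶ V),
      (𝓘.support : Set X) ⊆ (V : Set X) ∧ g ≫ V.ι = (𝓘 ^ (n + 1)).subschemeι ∧ PicF.IsInvertible L ∧
        Nonempty ((Scheme.Modules.pullback g).obj L ≅ N) := by
  obtain ⟨U, E, hU, hE, ⟨θ⟩⟩ := h1.2 𝔐 fun m => Groth.L20.ResDescent.isFinLocFree_of_isInvertible (h𝔐 m)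
  obtain ⟨g, hg⟩ := Groth.L18.PicLefColim.exists_factor 𝓘 U hU n
  obtain ⟨r⟩ := Groth.L18.PicLefColim.nonempty_pullback_push g _ hg E
  let lvl : (FSch.completionMod 𝓘 ((Scheme.Modules.pushforward U.ι).obj E)).F n ≅ 𝔐.F n :=
    { hom := θ.hom.app n, inv := θ.inv.app n
      hom_inv_id := congrFun (congrArg FSch.ModSys.Hom.app θ.hom_inv_id) n
      inv_hom_id := congrFun (congrArg FSch.ModSys.Hom.app θ.inv_hom_id) n }
  let eg : (Scheme.Modules.pullback g).obj E ≅ N := r.symm ≪≫ lvl ≪≫ eN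
  have hgi : PicF.IsInvertible ((Scheme.Modules.pullback g).obj E) := Groth.L18.Ample.isInvertible_of_iso eg.symm hN
  let S : Set X := {x | ∃ W : (U : Scheme.{u}).Opens, x ∈ U.ι ''ᵁ W ∧
    Nonempty (E.restrict W.ι ≅ FlatMod.freeMod (W : Scheme.{u}) 1)}
  have hS : IsOpen S := by
    refine isOpen_iff_forall_mem_open.2 fun x ⟨W, hx, hW⟩ => ⟨_, fun y hy => ⟨W, hy, hW⟩, (U.ι ''ᵁ W).2, hx⟩
  let V : X.Opens := ⟨S, hS⟩
  have hVU : V ≤ U := fun x ⟨W, ⟨w, _, hw⟩, _⟩ => hw ▸ w.2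
  have hV : (𝓘.support : Set X) ⊆ (V : Set X) := fun x hx => by
    rw [← Groth.L18.LefConnected.range_pow 𝓘 n] at hx
    obtain ⟨z, rfl⟩ := hx
    obtain ⟨W, hW, hW'⟩ := Groth.L18.PicLefLevels.rank_one_of_pullback g hE hgi z
    refine ⟨W, ⟨g z, hW, ?_⟩, hW'⟩
    exact congrArg (fun f : (𝓘 ^ (n + 1)).subscheme ⟶ X => f z) hg
  obtain ⟨g', hg'⟩ := Groth.L18.PicLefColim.exists_factor 𝓘 V hV n
  let j := X.homOfLE hVU
  have hj : g' ≫ j = g := by rw [← cancel_mono U.ι, Category.assoc, X.homOfLE_ι, hg', hg]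
  refine ⟨V, (Scheme.Modules.pullback j).obj E, g', hV, hg', ?_, ⟨(Scheme.Modules.pullbackComp g' j).app E ≪≫
    (Scheme.Modules.pullbackCongr hj).app E ≪≫ eg⟩⟩
  refine Groth.L18.PicLefLevels.isInvertible_pullback_of_rank j fun y => ?_
  obtain ⟨W, ⟨w, hw, hwy⟩, hW⟩ := y.2
  refine ⟨W, ?_, hW⟩
  have h : j y = w := U.ι.isOpenEmbedding.injective
    ((congrArg (fun f : (V : Scheme.{u}) ⟶ X => f y) (X.homOfLE_ι hVU)).trans hwy.symm)
  exact h ▸ hw

end Groth.L13.CIPic
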