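import Groth.Agent.L13.CIPic.Field
import Groth.Agent.L20.PicThick
import Groth.Agent.L20.ResDescent
import Groth.Agent.L06.PBasisField
import Groth.Agent.L22.PicGlue.GensIso

/-!
# Roots of degree the characteristic on a smooth complete intersection surface
-/

set_option autoImplicit false
set_option linter.style.haveILetI false
set_option linter.unusedSectionVars false
set_option backward.isDefEq.respectTransparency false
set_option backward.isDefEq.respectTransparency.types false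
universe u

open CategoryTheory CategoryTheory.Limits AlgebraicGeometry TopologicalSpace MvPolynomial

noncomputable section

namespace Groth.L13.CIPic

open Groth.L18.CIProj (pols)
open Groth.L18.Frame (rs ro IsFrame rs_rs ro_ro rs_smul rs_self ro_self)
open Groth.L18.SecTwistExt (epow epow_smul epow_rs)
open Groth.L21.PlaneCurve (OC)
open Chart

/-- The image of a frame under an isomorphism is a frame. -/
theorem isFrame_map {X : Scheme.{u}} {M N : X.Modules} (φ : M ≅ N) {W : X.Opens} {e : Γ(M, W)} (he : IsFrame M W e) :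
    IsFrame N W (φ.hom.app W e) := fun U hU => by
  have e1 : (fun b : Γ(X, U) => b • rs N hU (φ.hom.app W e)) = φ.hom.app U ∘ fun b => b • rs M hU e := by
    funext b
    simp only [Function.comp_apply, Scheme.Modules.Hom.app_smul]
    congr 1
    exact (Groth.L19.ProjBdl.app_rs φ.hom hU e).symm
  rw [e1]
  exact (ConcreteCategory.bijective_of_isIso (φ.hom.app U)).comp (he U hU)

section General

variable {K : Type u} [Field K] {k : Type u} [Field k] [Algebra k K] (p : ℕ) [Fact p.Prime] [CharP K p]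

/-- Over a perfect field only `p`-th powers have vanishing differential. -/
theorem exists_root_of_D_eq_zero (hk : ∀ c : k, ∃ c', c' ^ p = c) {z : K}
    (hz : KaehlerDifferential.D k K z = 0) : ∃ w : K, w ^ p = z := by
  have hmem : z ∈ IntermediateField.adjoin k ((Set.range fun y : K => y ^ p) ∪ (∅ : Set K)) := by
    by_contra hc
    obtain ⟨D, -, hD⟩ := Groth.L06.PBasisField.exists_der p hc
    rw [← Derivation.liftKaehlerDifferential_comp_D D z, hz, map_zero] at hD
    exact zero_ne_one hD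
  clear hz
  induction hmem using IntermediateField.adjoin_induction with
  | mem y hy =>
    rcases hy with ⟨w, rfl⟩ | hy
    · exact ⟨w, rfl⟩
    · exact hy.elim
  | algebraMap c =>
    obtain ⟨c', hc'⟩ := hk c
    exact ⟨algebraMap k K c', by rw [← map_pow, hc']⟩
  | add x y _ _ hx hy =>
    obtain ⟨v, rfl⟩ := hx
    obtain ⟨w, rfl⟩ := hy
    exact ⟨v + w, add_pow_char _ _ _⟩
  | inv x _ hx =>
    obtain ⟨v, rfl⟩ := hx
    exact ⟨v⁻¹, inv_pow _ _⟩
  | mul x y _ _ hx hy =>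
    obtain ⟨v, rfl⟩ := hx
    obtain ⟨w, rfl⟩ := hy
    exact ⟨v * w, mul_pow _ _ _⟩

end General

variable {k : Type u} [Field k] [IsAlgClosed k] {d : ℕ} {a : Fin d → ℕ}
  (ha : ∀ j, 1 ≤ a j) (G : ∀ j, LefPen.Form (2 + d) k (a j))
  [SmoothOfRelativeDimension 2 ((LefPen.ciIdeal G).subschemeι ≫ CohB1.ProjSpace.toSpec (2 + d) k)]

local notation "Rk" => MvPolynomial (Fin (2 + d + 1)) k

/-- Homogeneous elements killed at the generic point are relations. -/
theorem mem_idl_of_π_eq_zero [IsIntegral (CI G)] (hg : Cone.Good (pols G) a) (o : Fin (2 + d + 1))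
    (ho : genericPoint (CI G) ∈ V G o) {e : ℕ} {f : Rk} (hf : f.IsHomogeneous e) (h0 : π G o ho f = 0) :
    f ∈ Cone.idl (pols G) := by
  obtain ⟨u, v, w, hu, -, -, h⟩ := hg.triple
  let J : Ideal Rk := Submodule.comap (LinearMap.mulRight Rk f) (Cone.idl (pols G))
  obtain ⟨M, hM, hmem⟩ := Cone.exists_pow_mem J (fun x hx => by
    obtain ⟨i, hi⟩ := Function.ne_iff.1 hx
    obtain ⟨M, hM⟩ := exists_pow_mul_mem G o ho hf h0 i
    exact ⟨X i ^ M, hM, by rw [map_pow, eval_X]; exact pow_ne_zero M hi⟩) hu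
  exact (h M 1 1 hM le_rfl le_rfl).1 f hmem

variable {c p : ℕ} {L : (CI G).Modules} (σ : CohB1.tensorPow L p ≅ OC (LefPen.ciIdeal G) (c : ℤ))

include σ in
/-- The unit comparing the power of a frame with the standard frame of the twist. -/
theorem exists_coef {W : (CI G).Opens} {ℓ : Γ(L, W)} (hℓ : IsFrame L W ℓ) {b : Fin (2 + d + 1)}
    (hb : W ≤ V G b) :
    ∃ g : Γ(CI G, W), IsUnit g ∧
      g • rs (OC (LefPen.ciIdeal G) (c : ℤ)) hb (cfr G c b) = σ.hom.app W (epow ℓ p) := by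
  obtain ⟨g, hg⟩ := (isFrame_cfr G c b).exists_coeff hb (σ.hom.app W (epow ℓ p))
  refine ⟨g, Groth.L18.Frame.isUnit_of_isFrame ((isFrame_cfr G c b).mono hb) ?_, hg⟩
  rw [hg]
  exact Groth.L13.CIPic.isFrame_map σ (Groth.L20.ResDescent.isFrame_epow hℓ p)

theorem app_epow_rs {U' U : (CI G).Opens} (h : U' ≤ U) (ℓ : Γ(L, U)) :
    rs (OC (LefPen.ciIdeal G) (c : ℤ)) h (σ.hom.app U (epow ℓ p)) = σ.hom.app U' (epow (rs L h ℓ) p) := by
  rw [← epow_rs]
  exact (Groth.L19.ProjBdl.app_rs σ.hom h _).symm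

include σ in
/-- Change of frame and of chart. -/
theorem exists_transition [IsIntegral (CI G)] (o : Fin (2 + d + 1)) (ho : genericPoint (CI G) ∈ V G o)
    {W W' : (CI G).Opens} (hη : genericPoint (CI G) ∈ W) (hη' : genericPoint (CI G) ∈ W')
    {ℓ : Γ(L, W)} {ℓ' : Γ(L, W')} (hℓ : IsFrame L W ℓ) (hℓ' : IsFrame L W' ℓ') {b b' : Fin (2 + d + 1)}
    (hb : W ≤ V G b) (hb' : W' ≤ V G b') {g : Γ(CI G, W)} {g' : Γ(CI G, W')}
    (hg : g • rs (OC (LefPen.ciIdeal G) (c : ℤ)) hb (cfr G c b) = σ.hom.app W (epow ℓ p))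
    (hg' : g' • rs (OC (LefPen.ciIdeal G) (c : ℤ)) hb' (cfr G c b') = σ.hom.app W' (epow ℓ' p)) :
    ∃ u : (CI G).functionField, u ≠ 0 ∧
      gm G W' hη' g' * π G o ho (X b') ^ c = u ^ p * (gm G W hη g * π G o ho (X b) ^ c) := by
  let W'' := W ⊓ W'
  have hl : W'' ≤ W := inf_le_left
  have hr : W'' ≤ W' := inf_le_right
  have hbb : W'' ≤ V G b' ⊓ V G b := le_inf (hr.trans hb') (hl.trans hb)
  obtain ⟨u, hu⟩ := hℓ.exists_coeff hl (rs L hr ℓ')
  have huu : IsUnit u := Groth.L18.Frame.isUnit_of_isFrame (hℓ.mono hl) (by rw [hu]; exact hℓ'.mono hr)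
  have h1 : ro hr g' * ro hbb (ro (inf_le_right : V G b' ⊓ V G b ≤ V G b) (ρ G b (X b' ^ c))) =
      u ^ p * ro hl g := by
    refine ((isFrame_cfr G c b).mono (hl.trans hb)).inj le_rfl ?_
    have e1 := congrArg (rs (OC (LefPen.ciIdeal G) (c : ℤ)) hbb) (cfr_eq G c b' b)
    rw [rs_smul, rs_rs, rs_rs] at e1
    have e2 := congrArg (rs (OC (LefPen.ciIdeal G) (c : ℤ)) hl) hg
    have e3 := congrArg (rs (OC (LefPen.ciIdeal G) (c : ℤ)) hr) hg'
    rw [rs_smul, rs_rs, app_epow_rs] at e2 e3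
    rw [rs_self, mul_smul, ← e1, mul_smul, e2, e3, ← hu, epow_smul, Scheme.Modules.Hom.app_smul]
  have hη'' : genericPoint (CI G) ∈ W'' := ⟨hη, hη'⟩
  refine ⟨gm G W'' hη'' u, (huu.map (gm G W'' hη'')).ne_zero, ?_⟩
  have h2 := congrArg (gm G W'' hη'') h1
  rw [map_mul, map_mul, map_pow (gm G W'' hη''), gm_ro, gm_ro, gm_ro, gm_ro] at h2
  have h3 := π_rel G o ho ((isHomogeneous_X k b').pow c) (hb hη)
  rw [one_mul, map_pow (π G o ho)] at h3
  rw [← h3, ← mul_assoc, ← mul_assoc]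
  exact congrArg (· * π G o ho (X b) ^ c) h2

include ha σ in
/-- The coefficient of a frame at the generic point is a `p`-th power, and the degree vanishes modulo `p`. -/
theorem exists_pth_root [IsIntegral (CI G)] [Fact p.Prime] [CharP k p] (hL : PicF.IsInvertible L)
    {W : (CI G).Opens} (hW : IsAffineOpen W) (hη : genericPoint (CI G) ∈ W)
    {ℓ : Γ(L, W)} (hℓ : IsFrame L W ℓ) {b : Fin (2 + d + 1)} (hb : W ≤ V G b) {g : Γ(CI G, W)} (hgu : IsUnit g)
    (hg : g • rs (OC (LefPen.ciIdeal G) (c : ℤ)) hb (cfr G c b) = σ.hom.app W (epow ℓ p)) :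
    (c : k) = 0 ∧ (c = 0 → ∃ w : Γ(CI G, W), IsUnit w ∧ w ^ p = g) := by
  classical
  have good := good ha G
  let Y := CI G
  obtain ⟨o, ho⟩ := exists_mem_V G (genericPoint Y)
  let P := π G o ho
  have hPhom : ∀ {e : ℕ} {f : Rk}, f.IsHomogeneous e → P f = 0 → f ∈ Cone.idl (pols G) :=
    fun hf h0 => mem_idl_of_π_eq_zero G good o ho hf h0
  have hnot : ∀ {f : Rk}, P f ≠ 0 → f ∉ Cone.idl (pols G) := fun h hf => h (π_of_mem_span G o ho hf)
  have hXb : P (X b) ≠ 0 := π_X_ne_zero G o ho (hb hη)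
  have hgη : gm G W hη g ≠ 0 := (hgu.map (gm G W hη)).ne_zero
  obtain ⟨e, A, D, hA, hD, hD0, hAD⟩ := exists_ratio G o ho (gm G W hη g)
  have hA0 : P A ≠ 0 := by rw [← hAD]; exact mul_ne_zero hgη hD0
  let N : Rk := A * X b ^ c
  have hN : N.IsHomogeneous (e + c) := by simpa using hA.mul ((isHomogeneous_X k b).pow c)
  have hN0 : P N ≠ 0 := by
    rw [map_mul, map_pow]
    exact mul_ne_zero hA0 (pow_ne_zero _ hXb)
  have hloc : Cone.LocPow (pols G) p N D := by
    intro x hx hz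
    obtain ⟨a', ha'⟩ := Function.ne_iff.1 hx
    let x' : Fin (2 + d + 1) → k := fun j => (x a')⁻¹ * x j
    have hx' : x' a' = 1 := inv_mul_cancel₀ ha'
    have hz' : ∀ j, eval x' (G j).1 = 0 := fun j => by
      rw [eval_smul_of_isHomogeneous (good.hom j), hz j, mul_zero]
    obtain ⟨W₁, ℓ₁, hy₁, hℓ₁⟩ := Groth.L18.Frame.exists_frame hL (pt G a' hx' hz')
    let W' := W₁ ⊓ V G a'
    have hy : pt G a' hx' hz' ∈ W' := ⟨hy₁, pt_mem G a' hx' hz'⟩
    have hℓ' : IsFrame L W' (rs L inf_le_left ℓ₁) := hℓ₁.mono _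
    obtain ⟨g', hgu', hg'⟩ := exists_coef G σ hℓ' (inf_le_right : W' ≤ V G a')
    obtain ⟨v, hv, hrel⟩ := exists_transition G σ o ho hη (generic_mem G hy) hℓ hℓ' hb inf_le_right hg hg'
    obtain ⟨e₁, A₁, B₁, hA₁, hB₁, hAx, hBx, hAB⟩ :=
      exists_ratio_at G o ho hx' hz' hy inf_le_right hgu'
    obtain ⟨e₂, A₂, B₂, hA₂, hB₂, hB20, hAB₂⟩ := exists_ratio G o ho v⁻¹
    have hA20 : P A₂ ≠ 0 := by rw [← hAB₂]; exact mul_ne_zero (inv_ne_zero hv) hB20
    refine ⟨A₁ * X a' ^ c, B₁, A₂, B₂, ?_, ?_, hnot hA20, hnot hB20, ?_⟩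
    · rw [map_mul, map_pow, eval_X]
      refine mul_ne_zero (fun h => hAx ?_) (pow_ne_zero _ ha')
      rw [eval_smul_of_isHomogeneous hA₁, h, mul_zero]
    · exact fun h => hBx (by rw [eval_smul_of_isHomogeneous hB₁, h, mul_zero])
    · have h1 : (N * B₁ * B₂ ^ p).IsHomogeneous (e + c + e₁ + e₂ * p) := (hN.mul hB₁).mul (hB₂.pow p)
      have h2 : (A₂ ^ p * D * (A₁ * X a' ^ c)).IsHomogeneous (e + c + e₁ + e₂ * p) := by
        have := ((hA₂.pow p).mul hD).mul (hA₁.mul ((isHomogeneous_X k a').pow c))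
        rwa [show e₂ * p + e + (e₁ + 1 * c) = e + c + e₁ + e₂ * p by ring] at this
      refine hPhom (h1.sub h2) ?_
      simp only [N, P, map_sub, map_mul, map_pow]
      rw [← hAD, ← hAB, ← hAB₂, mul_pow, inv_pow]
      field_simp
      linear_combination (-(π G o ho B₁ * π G o ho B₂ ^ p * π G o ho D)) * hrel
  have hc : (c : k) = 0 := by
    have := Cone.degree_eq p good hN hD (hnot hN0) (hnot hD0) hloc (x := 0) fun j =>
      Cone.eval_zero_of_isHomogeneous (good.hom j) (good.pos j)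
    rwa [Nat.cast_add, add_sub_cancel_left] at this
  refine ⟨hc, fun hc0 => ?_⟩
  letI : Algebra k Y.functionField := (P.comp C).toAlgebra
  haveI : CharP Y.functionField p := charP_of_injective_ringHom (algebraMap k Y.functionField).injective p
  let πC : Cone.CR (pols G) →ₐ[k] Y.functionField :=
    { Ideal.Quotient.lift (Cone.idl (pols G)) P fun f hf => π_of_mem_span G o ho hf with
      commutes' := fun r => rfl }
  have hD0' : πC (Ideal.Quotient.mk _ D) ≠ 0 := hD0
  have h := Cone.D_eq_zero p good (π := πC) (by simpa [hc0] using hN) hD (hnot hN0) (hnot hD0) hloc hD0'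
  have hval : πC (Ideal.Quotient.mk _ N) / πC (Ideal.Quotient.mk _ D) = gm G W hη g := by
    show P N / P D = _
    rw [map_mul, hc0, pow_zero, map_one, mul_one, ← hAD, mul_div_assoc, div_self hD0, mul_one]
  rw [hval] at h
  obtain ⟨z, hz⟩ := exists_root_of_D_eq_zero p (fun r => IsAlgClosed.exists_pow_nat_eq r (Fact.out : p.Prime).pos) h
  haveI : Nonempty W := ⟨⟨_, hη⟩⟩
  haveI := functionField_isFractionRing_of_isAffineOpen Y W hW
  haveI : Smooth ((LefPen.ciIdeal G).subschemeι ≫ CohB1.ProjSpace.toSpec (2 + d) k) :=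
    SmoothOfRelativeDimension.smooth 2 _
  haveI : IsIntegrallyClosed Γ(Y, W) := Groth.L22.CurveQuot.isIntegrallyClosed_of_smooth
    ((LefPen.ciIdeal G).subschemeι ≫ CohB1.ProjSpace.toSpec (2 + d) k) W ⟨⟨_, hη⟩⟩
  obtain ⟨w, hw⟩ := IsIntegrallyClosed.exists_algebraMap_eq_of_isIntegral_pow
    (K := Y.functionField) (R := Γ(Y, W)) (n := p) (Fact.out : p.Prime).pos (x := z)
    (by rw [hz]; exact isIntegral_algebraMap)
  have hwp : w ^ p = g := gm_injective G W hη (by
    rw [map_pow, show gm G W hη w = z from hw, hz])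
  exact ⟨w, (isUnit_pow_iff (Fact.out : p.Prime).ne_zero).1 (hwp.symm ▸ hgu), hwp⟩

include ha σ in
/-- A root of degree the characteristic of a twist: the twist is trivial modulo the characteristic. -/
theorem natCast_eq_zero_of_root [Fact p.Prime] [CharP k p] (hL : PicF.IsInvertible L) : (c : k) = 0 := by
  haveI := isIntegral_ci ha G
  obtain ⟨W, ℓ, hyW, hℓ⟩ := Groth.L18.Frame.exists_frame hL (genericPoint (CI G))
  obtain ⟨b, hb⟩ := exists_mem_V G (genericPoint (CI G))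
  obtain ⟨_, ⟨U, hU, rfl⟩, hyU, hle⟩ :=
    (CI G).isBasis_affineOpens.exists_subset_of_mem_open
      (show genericPoint (CI G) ∈ W ⊓ V G b from ⟨hyW, hb⟩) (W ⊓ V G b).2
  obtain ⟨g, hgu, hg⟩ := exists_coef G σ (hℓ.mono (fun y hy => (hle hy).1)) (fun y hy => (hle hy).2 : U ≤ V G b)
  exact (exists_pth_root ha G σ hL hU hyU (hℓ.mono _) _ hgu hg).1

include ha σ in
/-- A root of degree the characteristic of the structure sheaf is trivial. -/
theorem nonempty_iso_of_root_zero [Fact p.Prime] [CharP k p] (hc : c = 0) (hL : PicF.IsInvertible L) :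
    Nonempty (L ≅ Coh.structureModule (CI G)) := by
  subst hc
  haveI := isIntegral_ci ha G
  have key : ∀ y : CI G, ∃ (W : (CI G).Opens) (b : Fin (2 + d + 1)) (hb : W ≤ V G b) (ℓ : Γ(L, W)),
      y ∈ W ∧ IsFrame L W ℓ ∧ σ.hom.app W (epow ℓ p) = rs (OC (LefPen.ciIdeal G) ((0 : ℕ) : ℤ)) hb (cfr G 0 b) := by
    intro y
    obtain ⟨W, ℓ, hyW, hℓ⟩ := Groth.L18.Frame.exists_frame hL y
    obtain ⟨b, hb⟩ := exists_mem_V G y
    obtain ⟨_, ⟨U, hU, rfl⟩, hyU, hle⟩ :=
      (CI G).isBasis_affineOpens.exists_subset_of_mem_open (show y ∈ W ⊓ V G b from ⟨hyW, hb⟩) (W ⊓ V G b).2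
    have hb' : U ≤ V G b := fun z hz => (hle hz).2
    have hℓ' : IsFrame L U (rs L (fun z hz => (hle hz).1 : U ≤ W) ℓ) := hℓ.mono _
    obtain ⟨g, hgu, hg⟩ := exists_coef G σ hℓ' hb'
    obtain ⟨w, hwu, hw⟩ := (exists_pth_root ha G σ hL hU (generic_mem G hyU) hℓ' hb' hgu hg).2 rfl
    obtain ⟨w', hw'⟩ := hwu.exists_left_inv
    refine ⟨U, b, hb', w' • rs L _ ℓ, hyU, hℓ'.smul_unit (IsUnit.of_mul_eq_one w hw'), ?_⟩
    rw [epow_smul, Scheme.Modules.Hom.app_smul, ← hg, smul_smul, ← hw, ← mul_pow, hw', one_pow, one_smul]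
  choose W b hb ℓ hy hℓ hσ using key
  obtain ⟨e⟩ := Groth.L18.CIProj.nonempty_OC_zero (LefPen.ciIdeal G)
  obtain ⟨φ⟩ := Groth.L22.PicGlue.nonempty_iso_of_gens W (M := L) (M' := OC (LefPen.ciIdeal G) ((0 : ℕ) : ℤ))
    (e := ℓ) (e' := fun y => rs _ (hb y) (cfr G 0 (b y))) hℓ (fun y => (isFrame_cfr G 0 (b y)).mono (hb y))
    (fun y => ⟨y, hy y⟩) fun i j W' hi hj t ht => by
      have hbb : W' ≤ V G (b j) ⊓ V G (b i) := le_inf (hj.trans (hb j)) (hi.trans (hb i))
      have e1 := congrArg (rs (OC (LefPen.ciIdeal G) ((0 : ℕ) : ℤ)) hbb) (cfr_eq G 0 (b j) (b i))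
      rw [rs_smul, rs_rs, rs_rs, pow_zero, map_one (ρ G (b i))] at e1
      simp only [ro, map_one, one_smul] at e1
      replace ht : t • rs L hi (ℓ i) = rs L hj (ℓ j) := ht
      have h1 := congrArg (fun s => σ.hom.app W' (epow s p)) ht
      simp only [epow_smul, Scheme.Modules.Hom.app_smul] at h1
      rw [← app_epow_rs G σ hi, ← app_epow_rs G σ hj, hσ, hσ, rs_rs, rs_rs, e1] at h1
      have ht1 : t ^ p = 1 := ((isFrame_cfr G 0 (b i)).mono (hi.trans (hb i))).inj le_rfl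
        (by rw [rs_self, one_smul]; exact h1)
      have : t = 1 := eq_of_gm G fun h' => by
        haveI : CharP k p := inferInstance
        let K := (CI G).functionField
        obtain ⟨o, ho⟩ := exists_mem_V G (genericPoint (CI G))
        haveI : CharP K p := charP_of_injective_ringHom ((π G o ho).comp C).injective p
        refine frobenius_inj K p ?_
        show gm G W' h' t ^ p = gm G W' h' 1 ^ p
        rw [← map_pow, ht1, map_one, one_pow]
      show t • rs _ hi (rs _ (hb i) (cfr G 0 (b i))) = rs _ hj (rs _ (hb j) (cfr G 0 (b j)))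
      rw [this, one_smul, rs_rs, rs_rs, e1]
  exact ⟨φ ≪≫ e⟩

end Groth.L13.CIPic
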